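import Cfsg.Agent.Lib.E8Deg.Lines

/-! The chain of radicals of E₈ and the number of their singular characters. -/

set_option autoImplicit false
set_option linter.unusedSectionVars false
set_option linter.dupNamespace false
set_option maxRecDepth 100000
set_option maxHeartbeats 1000000
set_option synthInstance.maxSize 4096
set_option synthInstance.maxHeartbeats 400000

namespace CfsgLib.E8Deg

open Cfsg.Lie CfsgLib.Chev CfsgLib.Chev.Chev

/-- The index of the third node of the chain. -/
def i6 : Ix := ⟨5, by decide⟩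
/-- The index of the fourth node of the chain. -/
def i5 : Ix := ⟨4, by decide⟩
/-- The index of the branch node. -/
def i4 : Ix := ⟨3, by decide⟩
/-- The index of the node after the branch node. -/
def i3 : Ix := ⟨2, by decide⟩
/-- The index of the short end. -/
def i2 : Ix := ⟨1, by decide⟩

/-- No roots. -/
def none (_ : Rt) : Bool := false

/-- The Levi roots after one radical. -/
noncomputable def L0 : Rt → Bool := lev i8
/-- The second radical. -/
noncomputable def R1 (r : Rt) : Bool := L0 r && rad i7 r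
/-- The Levi roots after two radicals. -/
noncomputable def L1 (r : Rt) : Bool := L0 r && lev i7 r
/-- The third radical. -/
noncomputable def R2 (r : Rt) : Bool := L1 r && rad i6 r
/-- The Levi roots after three radicals. -/
noncomputable def L2 (r : Rt) : Bool := L1 r && lev i6 r
/-- The fourth radical. -/
noncomputable def R3 (r : Rt) : Bool := L2 r && rad i5 r
/-- The Levi roots after four radicals. -/
noncomputable def L3 (r : Rt) : Bool := L2 r && lev i5 r
/-- The fifth radical. -/
noncomputable def R4 (r : Rt) : Bool := L3 r && rad i4 r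
/-- The Levi roots after five radicals. -/
noncomputable def L4 (r : Rt) : Bool := L3 r && lev i4 r
/-- The sixth radical. -/
noncomputable def R5 (r : Rt) : Bool := L4 r && (rad i3 r || rad i2 r)
/-- The Levi roots after six radicals. -/
noncomputable def L5 (r : Rt) : Bool := L4 r && (lev i3 r && lev i2 r)
/-- The last radical. -/
noncomputable def R6 (r : Rt) : Bool := L5 r && decide (120 ≤ r.val)

/-- The roots of the first radical. -/
noncomputable def S0 : Rt → Bool := QQ
/-- The roots of two radicals. -/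
noncomputable def S1 : Rt → Bool := uni S0 R1
/-- The roots of three radicals. -/
noncomputable def S2 : Rt → Bool := uni S1 R2
/-- The roots of four radicals. -/
noncomputable def S3 : Rt → Bool := uni S2 R3
/-- The roots of five radicals. -/
noncomputable def S4 : Rt → Bool := uni S3 R4
/-- The roots of six radicals. -/
noncomputable def S5 : Rt → Bool := uni S4 R5
/-- All positive roots. -/
noncomputable def SP : Rt → Bool := uni S5 R6

theorem SP_eq : ∀ a : Rt, SP a = true ↔ 120 ≤ a.val := by decide +kernel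

/-- The conditions of a step, as one decidable statement. -/
def StepOK (Fix R L D L' : Rt → Bool) (i : Ix) : Prop :=
  ∀ d, D d = true →
    (R (rf i d) = true ∧ R (sr i) = true ∧ R (sm d (sr i)) = true ∧ Nc d (sr i) ≠ 0 ∧
      sm d (sr i) ≠ sr i ∧ Fix d = false ∧ R d = false) ∧
    (∀ a, img i (uni Fix R) a = true → a ≠ (sr i).rev →
      (uni (uni Fix R) D a = true ∧ a ≠ sr i)) ∧
    (∀ a, D a = true → img i (uni Fix R) a = true) ∧
    (img i (uni Fix R) (sr i).rev = true ∧ (sr i).rev ≠ d) ∧
    (∀ a, img i (uni Fix R) a = true → a ≠ (sr i).rev → a ≠ sr i ∧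
      (Nc (sr i).rev a ≠ 0 → img i (uni Fix R) (sm (sr i).rev a) = true ∧ sm (sr i).rev a ≠ (sr i).rev ∧
        sm (sr i).rev a ≠ d)) ∧
    (∀ a, img i (uni Fix R) a = true → a ≠ (sm d (sr i)).rev ∧
      (Nc (sm d (sr i)) a ≠ 0 → img i (uni Fix R) (sm (sm d (sr i)) a) = true ∧
        sm (sm d (sr i)) a ≠ (sr i).rev ∧ (a ≠ (sr i).rev → sm (sm d (sr i)) a ≠ d))) ∧
    (Nc (sm d (sr i)) (sr i).rev ≠ 0 ∧ sm (sm d (sr i)) (sr i).rev = d) ∧
    (∀ a, uni Fix R a = true → a ≠ sr i → img i (uni Fix R) a = false → a ≠ sm d (sr i) →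
      L (rf i a) = true ∧ stab (uni Fix R) (rf i d) (rf i a) = true ∧ a ≠ (sm d (sr i)).rev ∧
        Nc (sm d (sr i)) a = 0 ∧ a ≠ d) ∧
    (∀ a, uni (uni Fix R) D a = true → a ≠ sr i → a ≠ (sr i).rev ∧
      (Nc (sr i) a ≠ 0 → uni (uni Fix R) D (sm (sr i) a) = true ∧ sm (sr i) a ≠ sr i ∧ sm (sr i) a ≠ d)) ∧
    (L d = true ∧ stab (uni Fix R) (sr i) d = true) ∧
    (∀ a, L' a = true → stab (uni (uni Fix R) D) d a = true →
      L (rf i a) = true ∧ stab (uni Fix R) (rf i d) (rf i a) = true ∧ a ≠ (sm d (sr i)).rev ∧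
        (Nc (sm d (sr i)) a ≠ 0 → L (rf i (sm (sm d (sr i)) a)) = true ∧
          stab (uni Fix R) (rf i d) (rf i (sm (sm d (sr i)) a)) = true))

theorem StepOK.at {Fix R L D L' : Rt → Bool} {i : Ix} (h : StepOK Fix R L D L' i) (d : Rt) (hd : D d = true) :
    StepAt Fix R L D L' i d := by
  obtain ⟨h1, h2, h3, h4, h5, h6, h7, h8, h9, h10, h11⟩ := h d hd
  exact ⟨h1, h2, h3, h4, h5, h6, h7, h8, h9, h10, h11⟩

/-- The roots `j` of `R` whose coordinates are free below `i`. -/
noncomputable def cell (R : Rt → Bool) (i j : Rt) : Bool :=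
  R j && decide (j < i) && decide (Nc i j.rev ≠ 0)

/-- The number of free coordinates below `i`. -/
noncomputable def ncell (R : Rt → Bool) (i : Rt) : ℕ := Fintype.card {j : Rt // cell R i j = true}

/-- The condition for counting cells. -/
def CellOK (Fix R : Rt → Bool) : Prop :=
  (∀ a, R a = true → Fix a = false) ∧
  ∀ i, R i = true → ∀ j, cell R i j = true →
    Nc (sm i j.rev) j ≠ 0 ∧ sm (sm i j.rev) j = i ∧
    ∀ a, uni Fix R a = true → a ≠ (sm i j.rev).rev ∧
      (Nc (sm i j.rev) a ≠ 0 → uni Fix R (sm (sm i j.rev) a) = true ∧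
        (Fix a = true → Fix (sm (sm i j.rev) a) = true) ∧
        (j < a → Fix (sm (sm i j.rev) a) = true ∨ i < sm (sm i j.rev) a))

/-- The roots of a set. -/
noncomputable def roots (R : Rt → Bool) : Finset Rt := Finset.univ.filter fun r => R r = true

/-- The sum of the powers of `q` over the cells. -/
noncomputable def csum (R : Rt → Bool) (q : ℕ) : ℕ := ∑ i ∈ roots R, q ^ ncell R i

theorem csum_eq {R : Rt → Bool} {l : List ℕ} (h : (roots R).val.map (ncell R) = ↑l) (q : ℕ) :
    csum R q = (l.map (q ^ ·)).sum := by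
  have e : csum R q = (((roots R).val.map (ncell R)).map (q ^ ·)).sum := by
    rw [Multiset.map_map]; rfl
  rw [e, h, Multiset.map_coe, Multiset.sum_coe]

variable {F : Type*} [Field F] [Fintype F] {k : ℕ} {ρ : Representation ℂ (GG F) (Fin k → ℂ)}

theorem cell_fill {Fix R : Rt → Bool} (hok : CellOK Fix R) {i : Rt} (hi' : R i = true) {s : F} (hs : s ≠ 0)
    (d : Rt → F) :
    ∀ n, ∃ c : Rt → F, c i = s ∧
      Module.finrank ℂ (Eig ρ (uni Fix R) (sgl i s)) ≤ Module.finrank ℂ (Eig ρ (uni Fix R) c) ∧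
      (∀ a, uni Fix R a = true → Fix a = true ∨ i < a → c a = 0) ∧
      ∀ j, cell R i j = true → 240 ≤ j.val + n → c j = d j := by
  intro n
  induction n with
  | zero =>
    refine ⟨sgl i s, sgl_self i s, le_rfl, fun a _ ha => sgl_ne (fun e => ?_) s, fun j _ h => ?_⟩
    · subst e
      rcases ha with ha | ha
      · rw [hok.1 a hi'] at ha; exact absurd ha (by decide)
      · exact lt_irrefl _ ha
    · have h240 : j.val < 240 := j.isLt
      omega
  | succ n ih =>
    obtain ⟨c, hci, hle, hz, hd⟩ := ih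
    by_cases hex : ∃ j : Rt, cell R i j = true ∧ j.val + n + 1 = 240
    swap
    · refine ⟨c, hci, hle, hz, fun j hj hn => hd j hj ?_⟩
      by_contra hlt
      exact hex ⟨j, hj, by omega⟩
    obtain ⟨j, hj, hjn⟩ := hex
    obtain ⟨hN, hS, hmv⟩ := hok.2 i hi' j hj
    set g := sm i j.rev
    have hcell : ∀ a, cell R i a = true → R a = true ∧ a < i := fun a ha => by
      simp only [cell, Bool.and_eq_true, decide_eq_true_eq] at ha
      exact ha.1
    set t : F := (c j - d j) / ((kap g j : F) * s) with ht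
    have hsame : ∀ a, uni Fix R a = true → Fix a = true ∨ j < a → mv g t c a = c a := by
      intro a ha hc
      rw [mv]; split_ifs with hN'
      · rfl
      · obtain ⟨h1, h2, h3⟩ := (hmv a ha).2 hN'
        rw [hz _ h1 (hc.elim (fun h => Or.inl (h2 h)) h3), mul_zero, sub_zero]
    refine ⟨mv g t c, ?_, hle.trans (finrank_le_of_move (x g t) fun v hv =>
      move g t (fun a ha => ⟨(hmv a ha).1, fun hN' => ((hmv a ha).2 hN').1⟩) hv), fun a ha hc => ?_, fun a ha hn => ?_⟩
    · rw [hsame i (uni_iff.2 (Or.inr hi')) (Or.inr (hcell j hj).2), hci]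
    · rw [hsame a ha (hc.imp id (lt_trans (hcell j hj).2)), hz a ha hc]
    · by_cases haj : a = j
      · subst haj
        rw [mv, if_neg hN, hS, hci, ht]
        have := kap_ne (F := F) hN
        field_simp
        ring
      · have hja : j < a := by
          have : a.val ≠ j.val := fun e => haj (Fin.ext e)
          show j.val < a.val
          omega
        rw [hsame a (uni_iff.2 (Or.inr (hcell a ha).1)) (Or.inr hja), hd a ha]
        have : j.val < a.val := hja
        omega

/-- A lower bound from the pure characters of one radical. -/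
theorem cells_le {Fix R : Rt → Bool} (hok : CellOK Fix R) (m : ℕ)
    (hm : ∀ i, R i = true → ∀ s : F, s ≠ 0 → m ≤ Module.finrank ℂ (Eig ρ (uni Fix R) (sgl i s))) :
    m * (Fintype.card F - 1) * csum R (Fintype.card F) + Module.finrank ℂ (Eig ρ (uni Fix R) (0 : Rt → F))
      ≤ Module.finrank ℂ (Eig ρ Fix (0 : Rt → F)) := by
  classical
  have h : ∀ (i : {i : Rt // R i = true}) (s : Fˣ) (d : {j : Rt // cell R i.1 j = true} → F),
      ∃ c : Rt → F, c i.1 = s ∧ m ≤ Module.finrank ℂ (Eig ρ (uni Fix R) c) ∧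
        (∀ a, uni Fix R a = true → Fix a = true ∨ i.1 < a → c a = 0) ∧ ∀ j, c j.1 = d j := by
    intro i s d
    obtain ⟨c, h1, h2, h3, h4⟩ := cell_fill (ρ := ρ) hok i.2 s.ne_zero
      (fun a => if h : cell R i.1 a = true then d ⟨a, h⟩ else 0) 240
    exact ⟨c, h1, (hm i.1 i.2 s s.ne_zero).trans h2, h3, fun j => by
      rw [h4 j.1 j.2 (by omega), dif_pos j.2]⟩
  choose cf hci hcm hcz hcd using h
  let ι := Σ i : {i : Rt // R i = true}, Fˣ × ({j : Rt // cell R i.1 j = true} → F)
  let c : Option ι → Rt → F := fun o => o.elim 0 fun p => cf p.1 p.2.1 p.2.2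
  have hne : ∀ p : ι, ∃ a, uni Fix R a = true ∧ c (some p) a ≠ 0 := fun p =>
    ⟨p.1.1, uni_iff.2 (Or.inr p.1.2), by
      show cf p.1 p.2.1 p.2.2 p.1.1 ≠ 0
      rw [hci]; exact Units.ne_zero _⟩
  have hsep : ∀ o o', o ≠ o' → ∃ a, uni Fix R a = true ∧ c o a ≠ c o' a := by
    intro o o' hoo
    rcases o with _ | p <;> rcases o' with _ | p'
    · exact absurd rfl hoo
    · obtain ⟨a, h1, h2⟩ := hne p'; exact ⟨a, h1, Ne.symm h2⟩
    · obtain ⟨a, h1, h2⟩ := hne p; exact ⟨a, h1, h2⟩
    · obtain ⟨i, s, d⟩ := p; obtain ⟨i', s', d'⟩ := p'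
      show ∃ a, uni Fix R a = true ∧ cf i s d a ≠ cf i' s' d' a
      rcases lt_trichotomy i.1 i'.1 with hlt | heq | hlt
      · refine ⟨i'.1, uni_iff.2 (Or.inr i'.2), ?_⟩
        rw [hcz i s d i'.1 (uni_iff.2 (Or.inr i'.2)) (Or.inr hlt), hci]
        exact Ne.symm (Units.ne_zero _)
      · obtain rfl : i = i' := Subtype.ext heq
        by_cases hs : s = s'
        · subst hs
          obtain ⟨j, hj⟩ := Function.ne_iff.1 (show d ≠ d' from fun e => hoo (by rw [e]))
          have hjR : R j.1 = true := by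
            have := j.2
            simp only [cell, Bool.and_eq_true] at this
            exact this.1.1
          exact ⟨j.1, uni_iff.2 (Or.inr hjR), by rw [hcd, hcd]; exact hj⟩
        · exact ⟨i.1, uni_iff.2 (Or.inr i.2), by rw [hci, hci]; exact fun e => hs (Units.ext e)⟩
      · refine ⟨i.1, uni_iff.2 (Or.inr i.2), ?_⟩
        rw [hcz i' s' d' i.1 (uni_iff.2 (Or.inr i.2)) (Or.inr hlt), hci]
        exact Units.ne_zero _
  have hsum := finrank_sum_le (ρ := ρ) (uni Fix R) c hsep (fun o => Eig ρ (uni Fix R) (c o))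
    (Eig ρ Fix 0) (fun o => Eig_mono fun a ha => ⟨uni_iff.2 (Or.inl ha), by
      rcases o with _ | p
      · rfl
      · exact hcz p.1 p.2.1 p.2.2 a (uni_iff.2 (Or.inl ha)) (Or.inl ha)⟩) (fun o => le_rfl)
  rw [Fintype.sum_option, add_comm] at hsum
  refine le_trans (Nat.add_le_add_right ?_ _) hsum
  refine le_trans (le_of_eq ?_) (Finset.card_nsmul_le_sum _ _ m fun p _ => hcm p.1 p.2.1 p.2.2)
  rw [Finset.card_univ, smul_eq_mul, Fintype.card_sigma]
  simp only [Fintype.card_prod, Fintype.card_units, Fintype.card_fun]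
  rw [← Finset.mul_sum, mul_comm _ m, mul_assoc]
  congr 2
  rw [csum, roots]
  exact (Finset.sum_subtype _ (fun x => by simp) (fun i => Fintype.card F ^ ncell R i))

end CfsgLib.E8Deg
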