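import Cfsg.Agent.Lib.E8Deg.Chain

/-! Stabilisers of the pure characters. -/

set_option autoImplicit false
set_option linter.unusedSectionVars false
set_option linter.dupNamespace false
set_option maxRecDepth 100000
set_option maxHeartbeats 1000000
set_option synthInstance.maxSize 4096
set_option synthInstance.maxHeartbeats 400000

namespace CfsgLib.E8Deg

open Cfsg.Lie CfsgLib.Chev CfsgLib.Chev.Chev

theorem base_ok : ∀ r a, R0 r = true → lev i8 a = true → stab QQ r a = true →
    ∃ g, lev i8 g = true ∧ lev i8 (sm a g.rev) = true ∧ sm a g.rev ≠ g.rev ∧ Nc g (sm a g.rev) ≠ 0 ∧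
      sm g (sm a g.rev) = a ∧ stab QQ r g = true ∧ stab QQ r (sm a g.rev) = true := by decide +kernel

end CfsgLib.E8Deg
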