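import Cfsg.Agent.Lib.E8Deg.Chain

/-! The cells of the radicals. -/

set_option autoImplicit false
set_option linter.unusedSectionVars false
set_option linter.dupNamespace false
set_option maxRecDepth 100000
set_option maxHeartbeats 1000000
set_option synthInstance.maxSize 4096
set_option synthInstance.maxHeartbeats 400000

namespace CfsgLib.E8Deg

open Cfsg.Lie CfsgLib.Chev CfsgLib.Chev.Chev

theorem cells0 : CellOK (one' top) R0 := by unfold CellOK; decide +kernel
theorem cells1 : CellOK S0 R1 := by unfold CellOK; decide +kernel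
theorem cells2 : CellOK S1 R2 := by unfold CellOK; decide +kernel
theorem cells3 : CellOK S2 R3 := by unfold CellOK; decide +kernel
theorem cells4 : CellOK S3 R4 := by unfold CellOK; decide +kernel
theorem cells5 : CellOK S4 R5 := by unfold CellOK; decide +kernel
theorem cells6 : CellOK S5 R6 := by unfold CellOK; decide +kernel

theorem exps0 : (roots R0).val.map (ncell R0) =
    ↑([0, 1, 2, 3, 4, 5, 5, 6, 6, 7, 7, 8, 8, 9, 9, 9, 10, 10, 10, 11, 11, 11, 12, 12, 12, 13, 13, 13, 14, 14, 14, 15, 15, 15, 16, 16, 16, 17, 17, 17, 18, 18, 18, 19, 19, 20, 20, 21, 21, 22, 22, 23, 24, 25, 26, 27] : List ℕ) := by decide +kernel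
theorem exps1 : (roots R1).val.map (ncell R1) =
    ↑([0, 1, 2, 3, 4, 4, 5, 5, 6, 6, 7, 7, 8, 8, 8, 9, 9, 10, 10, 11, 11, 12, 12, 13, 14, 15, 16] : List ℕ) := by decide +kernel
theorem exps2 : (roots R2).val.map (ncell R2) =
    ↑([0, 1, 2, 3, 3, 4, 4, 5, 5, 6, 6, 7, 7, 8, 9, 10] : List ℕ) := by decide +kernel
theorem exps3 : (roots R3).val.map (ncell R3) =
    ↑([0, 1, 2, 2, 3, 3, 4, 4, 5, 6] : List ℕ) := by decide +kernel
theorem exps4 : (roots R4).val.map (ncell R4) =
    ↑([0, 1, 1, 2, 2, 3] : List ℕ) := by decide +kernel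
theorem exps5 : (roots R5).val.map (ncell R5) =
    ↑([0, 0, 1] : List ℕ) := by decide +kernel
theorem exps6 : (roots R6).val.map (ncell R6) =
    ↑([0] : List ℕ) := by decide +kernel

end CfsgLib.E8Deg
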