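import Cfsg.Agent.Lib.E8Deg.Chain

/-! The first step of the chain. -/

set_option autoImplicit false
set_option linter.unusedSectionVars false
set_option linter.dupNamespace false
set_option maxRecDepth 100000
set_option maxHeartbeats 1000000
set_option synthInstance.maxSize 4096
set_option synthInstance.maxHeartbeats 400000

namespace CfsgLib.E8Deg

open Cfsg.Lie CfsgLib.Chev CfsgLib.Chev.Chev

theorem step01 : StepOK (one' top) R0 L0 R1 L1 i8 := by unfold StepOK; decide +kernel

end CfsgLib.E8Deg
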