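import Cfsg.Agent.Lib.E8Deg.Chain

/-! The later steps of the chain. -/

set_option autoImplicit false
set_option linter.unusedSectionVars false
set_option linter.dupNamespace false
set_option maxRecDepth 100000
set_option maxHeartbeats 1000000
set_option synthInstance.maxSize 4096
set_option synthInstance.maxHeartbeats 400000

namespace CfsgLib.E8Deg

open Cfsg.Lie CfsgLib.Chev CfsgLib.Chev.Chev

theorem step12 : StepOK S0 R1 L1 R2 L2 i7 := by unfold StepOK; decide +kernel
theorem step23 : StepOK S1 R2 L2 R3 L3 i6 := by unfold StepOK; decide +kernel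
theorem step34 : StepOK S2 R3 L3 R4 L4 i5 := by unfold StepOK; decide +kernel
theorem step45 : StepOK S3 R4 L4 R5 L5 i4 := by unfold StepOK; decide +kernel
theorem step56 : StepOK S4 R5 L5 R6 none i3 := by unfold StepOK; decide +kernel

end CfsgLib.E8Deg
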