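import Cfsg.Agent.Lib.E8Deg.CheckBase
import Cfsg.Agent.Lib.E8Deg.CheckStep
import Cfsg.Agent.Lib.E8Deg.CheckSteps
import Cfsg.Agent.Lib.E8Deg.CheckCells

/-! The degree is at least `B - 8` plus the dimension of the fixed space of the positive unipotent group. -/

set_option autoImplicit false
set_option linter.unusedSectionVars false
set_option linter.dupNamespace false
set_option maxRecDepth 100000
set_option maxHeartbeats 1000000
set_option synthInstance.maxSize 4096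
set_option synthInstance.maxHeartbeats 400000

namespace CfsgLib.E8Deg

open Cfsg.Lie CfsgLib.Chev CfsgLib.Chev.Chev

/-- The bound. -/
def bnd (q : ℕ) : ℕ := q * (q ^ 12 + 1) * (q ^ 10 + 1) * (q ^ 6 + 1)

theorem bnd_eq (q : ℕ) :
    bnd q = q ^ 29 + q ^ 23 + q ^ 19 + q ^ 17 + q ^ 13 + q ^ 11 + q ^ 7 + q := by unfold bnd; ring

theorem sums (p : ℕ) :
    p * (([0, 1, 2, 3, 4, 5, 5, 6, 6, 7, 7, 8, 8, 9, 9, 9, 10, 10, 10, 11, 11, 11, 12, 12, 12, 13, 13, 13, 14, 14,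
      14, 15, 15, 15, 16, 16, 16, 17, 17, 17, 18, 18, 18, 19, 19, 20, 20, 21, 21, 22, 22, 23, 24, 25, 26,
      27] : List ℕ).map ((p + 1) ^ ·)).sum + (p + 1) ^ 9 + (p + 1) ^ 5 + 1 =
      (p + 1) ^ 28 + (p + 1) ^ 23 + (p + 1) ^ 19 ∧
    p * (([0, 1, 2, 3, 4, 4, 5, 5, 6, 6, 7, 7, 8, 8, 8, 9, 9, 10, 10, 11, 11, 12, 12, 13, 14, 15, 16] : List ℕ).map
      ((p + 1) ^ ·)).sum + (p + 1) ^ 8 + (p + 1) ^ 4 + 1 = (p + 1) ^ 17 + (p + 1) ^ 13 + (p + 1) ^ 9 ∧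
    p * (([0, 1, 2, 3, 3, 4, 4, 5, 5, 6, 6, 7, 7, 8, 9, 10] : List ℕ).map ((p + 1) ^ ·)).sum + (p + 1) ^ 3 + 1 =
      (p + 1) ^ 11 + (p + 1) ^ 8 ∧
    p * (([0, 1, 2, 2, 3, 3, 4, 4, 5, 6] : List ℕ).map ((p + 1) ^ ·)).sum + (p + 1) ^ 2 + 1 =
      (p + 1) ^ 7 + (p + 1) ^ 5 ∧
    p * (([0, 1, 1, 2, 2, 3] : List ℕ).map ((p + 1) ^ ·)).sum + (p + 1) + 1 = (p + 1) ^ 4 + (p + 1) ^ 3 ∧
    p * (([0, 0, 1] : List ℕ).map ((p + 1) ^ ·)).sum + 2 = (p + 1) ^ 2 + (p + 1) ∧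
    p * (([0] : List ℕ).map ((p + 1) ^ ·)).sum + 1 = p + 1 := by
  simp only [List.map_cons, List.map_nil, List.sum_cons, List.sum_nil]
  refine ⟨?_, ?_, ?_, ?_, ?_, ?_, ?_⟩ <;> ring

theorem ineq (Q : ℕ) (hQ : 2 ≤ Q) :
    bnd Q + Q ^ 28 + 2 * (Q ^ 9 + Q ^ 5 + 1) ≤ Q ^ 29 + 2 * (Q ^ 28 + Q ^ 23 + Q ^ 19) ∧
    bnd Q + Q ^ 28 ≤ Q ^ 29 + Q ^ 29 ∧ Q ^ 28 ≤ Q ^ 29 := by
  rw [bnd_eq]
  have h : ∀ a b, a ≤ b → Q ^ a ≤ Q ^ b := fun a b hab => Nat.pow_le_pow_right (by omega) hab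
  have h1 := h 13 17 (by norm_num)
  have h2 := h 11 17 (by norm_num)
  have h3 := h 7 17 (by norm_num)
  have h4 := h 1 17 (by norm_num)
  have h5 := h 9 17 (by norm_num)
  have h6 := h 5 17 (by norm_num)
  have h7 := h 0 17 (by norm_num)
  have hs : ∀ n, 2 * Q ^ n ≤ Q ^ (n + 1) := fun n => by
    rw [pow_succ' Q n]; exact Nat.mul_le_mul_right _ hQ
  have g1 : 2 * Q ^ 28 ≤ Q ^ 29 := hs 28
  have g2 : 16 * Q ^ 17 ≤ Q ^ 28 := by
    have e := Nat.mul_le_mul_right (Q ^ 17) (le_trans (show 16 ≤ 2 ^ 11 by norm_num) (Nat.pow_le_pow_left hQ 11))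
    rwa [← pow_add] at e
  have g3 : 2 * Q ^ 22 ≤ Q ^ 23 := hs 22
  have g4 := h 19 22 (by norm_num)
  have g5 := h 23 26 (by norm_num)
  have g6 : 2 * Q ^ 27 ≤ Q ^ 28 := hs 27
  have g7 : 2 * Q ^ 26 ≤ Q ^ 27 := hs 26
  rw [pow_one] at h4
  rw [pow_zero] at h7
  clear h hs
  omega

variable {F : Type*} [Field F] [Fintype F] {k : ℕ} {ρ : Representation ℂ (GG F) (Fin k → ℂ)}

theorem pure_one (hρ : ρ.IsIrreducible) (hk : 2 ≤ k) (hB : k < bnd (Fintype.card F)) :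
    Module.finrank ℂ (Eig ρ QQ (sgl hi (1 : F))) = 1 := by
  have hq : 2 ≤ Fintype.card F := Fintype.one_lt_card
  have ht := top_split (ρ := ρ)
  have hb := top_big (ρ := ρ) hρ hk
  obtain ⟨i1, i2, i3⟩ := ineq (Fintype.card F) hq
  obtain ⟨p, hp⟩ : ∃ p, Fintype.card F = p + 1 := ⟨Fintype.card F - 1, by omega⟩
  have hmul : (Fintype.card F - 1) * Fintype.card F ^ 28 ≤
      (Fintype.card F - 1) * Module.finrank ℂ (Eig ρ (one' top) (sgl top (1 : F))) := Nat.mul_le_mul_left _ hb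
  have e29 : (Fintype.card F - 1) * Fintype.card F ^ 28 + Fintype.card F ^ 28 = Fintype.card F ^ 29 := by
    rw [hp, Nat.add_sub_cancel]; ring
  have hsmall : Module.finrank ℂ (Eig ρ (one' top) (0 : Rt → F)) < Fintype.card F ^ 29 := by omega
  obtain ⟨s, hs, hpos⟩ := pure_pos hρ hk hsmall
  rw [pure_all hi QQ_basic.2.2.1 hs] at hpos
  by_contra h1
  have h2 : 2 ≤ Module.finrank ℂ (Eig ρ QQ (sgl hi (1 : F))) := by omega
  have h := cells_le (ρ := ρ) cells0 2 fun i hi' s hs => by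
    show 2 ≤ Module.finrank ℂ (Eig ρ QQ (sgl i s))
    rw [pure_all i hi' hs]; exact h2
  rw [csum_eq exps0, hp, Nat.add_sub_cancel, mul_assoc] at h
  obtain ⟨a0, -⟩ := sums p
  rw [hp] at hb ht hmul e29 i1 hB
  rw [Nat.add_sub_cancel] at ht hmul e29
  generalize hM : List.map (fun x => (p + 1) ^ x) _ = M at *
  omega

theorem lines (hρ : ρ.IsIrreducible) (hk : 2 ≤ k) (hB : k < bnd (Fintype.card F)) :
    Line ρ (one' top) R0 L0 ∧
      bnd (Fintype.card F) + Module.finrank ℂ (Eig ρ SP (0 : Rt → F)) ≤ k + 8 := by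
  have hq : 2 ≤ Fintype.card F := Fintype.one_lt_card
  have l0 : Line ρ (one' top) R0 L0 := base base_ok (pure_one hρ hk hB)
  have l1 : Line ρ S0 R1 L1 := l0.step i8 fun d hd => step01.at d hd
  have l2 : Line ρ S1 R2 L2 := l1.step i7 fun d hd => step12.at d hd
  have l3 : Line ρ S2 R3 L3 := l2.step i6 fun d hd => step23.at d hd
  have l4 : Line ρ S3 R4 L4 := l3.step i5 fun d hd => step34.at d hd
  have l5 : Line ρ S4 R5 L5 := l4.step i4 fun d hd => step45.at d hd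
  have l6 : Line ρ S5 R6 none := l5.step i3 fun d hd => step56.at d hd
  refine ⟨l0, ?_⟩
  have c0 := cells_le (ρ := ρ) cells0 1 fun i hi' s hs => le_of_eq (l0 i hi' s hs).1.symm
  have c1 := cells_le (ρ := ρ) cells1 1 fun i hi' s hs => le_of_eq (l1 i hi' s hs).1.symm
  have c2 := cells_le (ρ := ρ) cells2 1 fun i hi' s hs => le_of_eq (l2 i hi' s hs).1.symm
  have c3 := cells_le (ρ := ρ) cells3 1 fun i hi' s hs => le_of_eq (l3 i hi' s hs).1.symm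
  have c4 := cells_le (ρ := ρ) cells4 1 fun i hi' s hs => le_of_eq (l4 i hi' s hs).1.symm
  have c5 := cells_le (ρ := ρ) cells5 1 fun i hi' s hs => le_of_eq (l5 i hi' s hs).1.symm
  have c6 := cells_le (ρ := ρ) cells6 1 fun i hi' s hs => le_of_eq (l6 i hi' s hs).1.symm
  have e0 : uni (one' top) R0 = S0 := rfl
  have e1 : uni S0 R1 = S1 := rfl
  have e2 : uni S1 R2 = S2 := rfl
  have e3 : uni S2 R3 = S3 := rfl
  have e4 : uni S3 R4 = S4 := rfl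
  have e5 : uni S4 R5 = S5 := rfl
  have e6 : uni S5 R6 = SP := rfl
  rw [e0] at c0
  rw [e1] at c1
  rw [e2] at c2
  rw [e3] at c3
  rw [e4] at c4
  rw [e5] at c5
  rw [e6] at c6
  rw [csum_eq exps0, one_mul] at c0
  rw [csum_eq exps1, one_mul] at c1
  rw [csum_eq exps2, one_mul] at c2
  rw [csum_eq exps3, one_mul] at c3
  rw [csum_eq exps4, one_mul] at c4
  rw [csum_eq exps5, one_mul] at c5
  rw [csum_eq exps6, one_mul] at c6
  have ht := top_split (ρ := ρ)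
  have hb := top_big (ρ := ρ) hρ hk
  have hmul : (Fintype.card F - 1) * Fintype.card F ^ 28 ≤
      (Fintype.card F - 1) * Module.finrank ℂ (Eig ρ (one' top) (sgl top (1 : F))) := Nat.mul_le_mul_left _ hb
  rw [bnd_eq]
  obtain ⟨p, hp⟩ : ∃ p, Fintype.card F = p + 1 := ⟨Fintype.card F - 1, by omega⟩
  have e29 : (Fintype.card F - 1) * Fintype.card F ^ 28 + Fintype.card F ^ 28 = Fintype.card F ^ 29 := by
    rw [hp, Nat.add_sub_cancel]; ring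
  rw [hp] at ht hmul e29 c0 c1 c2 c3 c4 c5 c6 ⊢
  rw [Nat.add_sub_cancel] at ht hmul e29 c0 c1 c2 c3 c4 c5 c6
  obtain ⟨a0, a1, a2, a3, a4, a5, a6⟩ := sums p
  omega

end CfsgLib.E8Deg
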