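import Cfsg.Agent.Lib.Chev.Inst
import Cfsg.Agent.Lib.Chev.SL2Hom
import Cfsg.Agent.Lib.OrthDeg.Engine

/-! Common eigenspaces of root subgroups in representations of E₈. -/

set_option autoImplicit false
set_option linter.unusedSectionVars false
set_option linter.dupNamespace false
set_option maxRecDepth 100000
set_option maxHeartbeats 1000000

namespace CfsgLib.E8Deg

open Cfsg.Lie CfsgLib.Chev CfsgLib.Chev.Chev

/-- A root of E₈. -/
abbrev Rt := Fin Cfsg.Lie.chevE8.nroots

/-- A fundamental index of E₈. -/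
abbrev Ix := Fin Cfsg.Lie.chevE8.rank

/-- The structure constants. -/
noncomputable abbrev Nc (r s : Rt) : ℤ := CfsgLib.Chev.chevE8.N r s

/-- The sum of two roots. -/
noncomputable abbrev sm (r s : Rt) : Rt := CfsgLib.Chev.chevE8.S r s

/-- The simple reflections. -/
noncomputable abbrev rf (i : Ix) (r : Rt) : Rt := CfsgLib.Chev.chevE8.refl i r

/-- The simple roots. -/
noncomputable abbrev sr (i : Ix) : Rt := CfsgLib.Chev.chevE8.p i

/-- The constant of a commutator of root elements. -/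
def kap (g a : Rt) : ℤ :=
  match Cfsg.Lie.chevE8.commTerms g.val a.val with
  | [] => 0
  | e :: _ => e.2.1

theorem terms_ok : ∀ g a : Rt, Nc g a ≠ 0 →
    Cfsg.Lie.chevE8.commTerms g.val a.val = [((sm g a).val, kap g a, 1, 1)] ∧
      (kap g a = 1 ∨ kap g a = -1) := by
  decide +kernel

variable {F : Type*} [Field F]

/-- The group. -/
abbrev GG (F : Type*) [Field F] := ↥(Cfsg.Lie.chevE8.group F)

/-- A root element. -/
noncomputable def x (r : Rt) (t : F) : GG F :=
  ⟨CfsgLib.Chev.chevE8.toAlg.xg r t, CfsgLib.Chev.chevE8.toAlg.xg_mem_group r t⟩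

theorem x_val (r : Rt) (t : F) : (x r t : GL Cfsg.Lie.chevE8.Idx F) = CfsgLib.Chev.chevE8.toAlg.xg r t :=
  rfl

theorem x_add (r : Rt) (a b : F) : x r (a + b) = x r a * x r b :=
  Subtype.ext (CfsgLib.Chev.chevE8.toAlg.xg_add r a b)

theorem x_zero (r : Rt) : x r (0 : F) = 1 := Subtype.ext (CfsgLib.Chev.chevE8.toAlg.xg_zero r)

theorem x_neg_mul (r : Rt) (a : F) : x r (-a) * x r a = 1 := by
  rw [← x_add, neg_add_cancel, x_zero]

theorem x_mul_neg (r : Rt) (a : F) : x r a * x r (-a) = 1 := by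
  rw [← x_add, add_neg_cancel, x_zero]

theorem x_ne_one (r : Rt) : x r (1 : F) ≠ 1 := fun h =>
  one_ne_zero (α := F) (CfsgLib.Chev.chevE8.toAlg.xg_eq_one_iff.1 (congrArg Subtype.val h))

theorem conj_zero {g a : Rt} (hne : a ≠ g.rev) (h : Nc g a = 0) (t w : F) :
    x a w * x g t = x g t * x a w :=
  Subtype.ext (CfsgLib.Chev.chevE8.toAlg.xg_commute hne h t w).eq.symm

theorem conj_ne {g a : Rt} (hne : a ≠ g.rev) (h : Nc g a ≠ 0) (t w : F) :
    x a w * x g t = x g t * x a w * x (sm g a) ((kap g a : F) * -t * w) := by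
  have hag : a ≠ g := fun e => h (by rw [e]; exact CfsgLib.Chev.chevE8.N_self g)
  refine Subtype.ext (Units.ext ?_)
  have := CfsgLib.Chev.chevE8.commutator_formula (r := g) (s := a) (R := F) hag hne t w
  rw [(terms_ok g a h).1] at this
  simpa [Sys.termProd, Sys.XN_val, x_val] using this

theorem kap_sq {g a : Rt} (h : Nc g a ≠ 0) : (kap g a : F) * kap g a = 1 := by
  rcases (terms_ok g a h).2 with e | e <;> simp [e]

theorem kap_ne {g a : Rt} (h : Nc g a ≠ 0) : (kap g a : F) ≠ 0 := left_ne_zero_of_mul_eq_one (kap_sq h)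

/-! ### Weyl and torus elements -/

/-- The element `n(t)` of a simple root. -/
noncomputable def nt (i : Ix) (t : Fˣ) : GG F :=
  x (sr i) (t : F) * x (sr i).rev (-(t : F)⁻¹) * x (sr i) (t : F)

/-- The Weyl element of a simple root. -/
noncomputable def nn (F : Type*) [Field F] (i : Ix) : GG F := nt i 1

theorem nn_val (i : Ix) : (nn F i : GL Cfsg.Lie.chevE8.Idx F) = CfsgLib.Chev.chevE8.nw (sr i) 1 := rfl

/-- The torus element of a simple coroot. -/
noncomputable def hh (i : Ix) (t : Fˣ) : GG F := nt i t * nt i (-1)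

theorem hh_val (i : Ix) (t : Fˣ) : (hh i t : GL Cfsg.Lie.chevE8.Idx F) = CfsgLib.Chev.chevE8.hw (sr i) t := rfl

/-- The sign of a reflection. -/
noncomputable def et (F : Type*) [Field F] (i : Ix) (r : Rt) : F := (CfsgLib.Chev.chevE8.eta i r : F)

theorem et_sq (i : Ix) (r : Rt) : et F i r * et F i r = 1 := by
  rcases CfsgLib.Chev.chevE8.eta_unit i r with e | e <;> simp [et, e]

theorem et_ne (i : Ix) (r : Rt) : et F i r ≠ 0 := left_ne_zero_of_mul_eq_one (et_sq i r)

theorem rf_rf (i : Ix) (r : Rt) : rf i (rf i r) = r := CfsgLib.Chev.chevE8.refl_refl i r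

theorem nn_x (i : Ix) (s : Rt) (t : F) : nn F i * x s t = x (rf i s) (et F i s * t) * nn F i :=
  Subtype.ext (CfsgLib.Chev.chevE8.nw_conj_xg i s t)

theorem x_nn (i : Ix) (a : Rt) (w : F) : x a w * nn F i = nn F i * x (rf i a) (et F i (rf i a) * w) := by
  rw [nn_x, rf_rf, ← mul_assoc, et_sq, one_mul]

theorem hh_x (i : Ix) (t : Fˣ) (s : Rt) (w : F) :
    hh i t * x s w = x s (((t ^ CfsgLib.Chev.chevE8.A i s : Fˣ) : F) * w) * hh i t := by
  refine Subtype.ext ?_
  simp only [Subgroup.coe_mul, hh_val, x_val]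
  rw [CfsgLib.Chev.chevE8.hw_p, CfsgLib.Chev.chevE8.toAlg.torus_xg,
    CfsgLib.Chev.chevE8.toAlg.chi_cartanChar]

theorem x_hh (i : Ix) (t : Fˣ) (a : Rt) (w : F) :
    x a w * hh i t = hh i t * x a (((t ^ CfsgLib.Chev.chevE8.A i a : Fˣ)⁻¹ : Fˣ) * w) := by
  rw [hh_x, ← mul_assoc, ← Units.val_mul, mul_inv_cancel, Units.val_one, one_mul]

/-! ### Eigenspaces -/

variable [Fintype F]

/-- The fixed additive character. -/
noncomputable abbrev ψ : AddChar F ℂ := AddChar.FiniteField.primitiveChar_to_Complex F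

theorem ψ_ne {a : F} (ha : a ≠ 0) : ∃ u : F, ψ (a * u) ≠ 1 := by
  obtain ⟨u, hu⟩ := AddChar.ne_one_iff.1 (AddChar.FiniteField.primitiveChar_to_Complex_isPrimitive F ha)
  exact ⟨u, by simpa using hu⟩

theorem ψ_sep {a b : F} (hab : a ≠ b) : ∃ u : F, ψ (a * u) ≠ ψ (b * u) := by
  obtain ⟨u, hu⟩ := ψ_ne (sub_ne_zero.2 hab)
  refine ⟨u, fun e => hu ?_⟩
  rw [sub_mul, sub_eq_add_neg, AddChar.map_add_eq_mul, e, ← AddChar.map_add_eq_mul, add_neg_cancel,
    AddChar.map_zero_eq_one]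

variable {k : ℕ} (ρ : Representation ℂ (GG F) (Fin k → ℂ))

theorem rho_mul (g h : GG F) (v : Fin k → ℂ) : ρ (g * h) v = ρ g (ρ h v) := by rw [map_mul]; rfl

theorem rho_inj {g : GG F} {v : Fin k → ℂ} (h : ρ g v = 0) : v = 0 := by
  have := congrArg (ρ g⁻¹) h
  rwa [← rho_mul, inv_mul_cancel, map_one, map_zero, Module.End.one_apply] at this

/-- Vectors on which the root subgroups in `S` act by the characters `c`. -/
def Eig (S : Rt → Bool) (c : Rt → F) : Submodule ℂ (Fin k → ℂ) where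
  carrier := {v | ∀ a, S a = true → ∀ u : F, ρ (x a u) v = ψ (c a * u) • v}
  zero_mem' := fun a _ u => by simp
  add_mem' := fun {v w} hv hw a ha u => by rw [map_add, hv a ha u, hw a ha u, smul_add]
  smul_mem' := fun z v hv a ha u => by rw [map_smul, hv a ha u, smul_comm]

theorem mem_Eig {S : Rt → Bool} {c : Rt → F} {v : Fin k → ℂ} :
    v ∈ Eig ρ S c ↔ ∀ a, S a = true → ∀ u : F, ρ (x a u) v = ψ (c a * u) • v := Iff.rfl

variable {ρ}

theorem Eig_mono {S S' : Rt → Bool} {c c' : Rt → F} (h : ∀ a, S' a = true → S a = true ∧ c a = c' a) :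
    Eig ρ S c ≤ Eig ρ S' c' := fun v hv a ha u => by rw [hv a (h a ha).1 u, (h a ha).2]

theorem Eig_eq_zero {S : Rt → Bool} {c : Rt → F} {v : Fin k → ℂ} (hv : v ∈ Eig ρ S c) {a : Rt}
    (ha : S a = true) {u : F} (hfix : ρ (x a u) v = v) (hne : ψ (c a * u) ≠ 1) : v = 0 := by
  have e := hv a ha u
  rw [hfix] at e
  by_contra h0
  exact hne (smul_left_injective ℂ h0 (show ψ (c a * u) • v = (1 : ℂ) • v by rw [one_smul]; exact e.symm))

/-- Translation of the characters by a root element. -/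
noncomputable def mv (g : Rt) (t : F) (c : Rt → F) (a : Rt) : F :=
  if Nc g a = 0 then c a else c a - (kap g a : F) * t * c (sm g a)

theorem move {S : Rt → Bool} {c : Rt → F} (g : Rt) (t : F)
    (hS : ∀ a, S a = true → a ≠ g.rev ∧ (Nc g a ≠ 0 → S (sm g a) = true)) {v : Fin k → ℂ}
    (hv : v ∈ Eig ρ S c) : ρ (x g t) v ∈ Eig ρ S (mv g t c) := by
  intro a ha w
  by_cases hN : Nc g a = 0
  · rw [mv, if_pos hN, ← rho_mul, conj_zero (hS a ha).1 hN, rho_mul, hv a ha w, map_smul]
  · rw [mv, if_neg hN, ← rho_mul, conj_ne (hS a ha).1 hN, rho_mul, rho_mul, hv _ ((hS a ha).2 hN),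
      map_smul, map_smul, hv a ha w, map_smul, smul_smul, ← AddChar.map_add_eq_mul]
    congr 2
    ring

/-- Conjugation by a Weyl element. -/
theorem move_nn {S S' : Rt → Bool} {c c' : Rt → F} (i : Ix)
    (h : ∀ a, S' a = true → S (rf i a) = true ∧ c' a = et F i (rf i a) * c (rf i a)) {v : Fin k → ℂ}
    (hv : v ∈ Eig ρ S c) : ρ (nn F i) v ∈ Eig ρ S' c' := by
  intro a ha w
  rw [← rho_mul, x_nn, rho_mul, hv _ (h a ha).1, map_smul, (h a ha).2]
  congr 2
  ring

/-- Conjugation by a torus element. -/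
theorem move_hh {S : Rt → Bool} {c c' : Rt → F} (i : Ix) (t : Fˣ)
    (h : ∀ a, S a = true → c' a = (((t ^ CfsgLib.Chev.chevE8.A i a : Fˣ)⁻¹ : Fˣ) : F) * c a) {v : Fin k → ℂ}
    (hv : v ∈ Eig ρ S c) : ρ (hh i t) v ∈ Eig ρ S c' := by
  intro a ha w
  rw [← rho_mul, x_hh, rho_mul, hv a ha, map_smul, h a ha]
  congr 2
  ring

theorem finrank_le_of_move {A B : Submodule ℂ (Fin k → ℂ)} (g : GG F) (h : ∀ v ∈ A, ρ g v ∈ B) :
    Module.finrank ℂ A ≤ Module.finrank ℂ B := by
  refine LinearMap.finrank_le_finrank_of_injective (f := (ρ g).restrict h) fun v w e => Subtype.ext ?_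
  have e' := congrArg Subtype.val e
  simp only [LinearMap.coe_restrict_apply] at e'
  exact sub_eq_zero.1 (rho_inj ρ (g := g) (by rw [map_sub, e', sub_self]))

/-! ### Projections -/

/-- The character with parameter `c`. -/
noncomputable def chr (c : F) : AddChar F ℂ := AddChar.mulShift ψ c

theorem chr_apply (c u : F) : chr c u = ψ (c * u) := rfl

theorem chr_bijective : Function.Bijective (chr : F → AddChar F ℂ) := by
  classical
  refine (Fintype.bijective_iff_injective_and_card _).2 ⟨fun a b h => ?_, (AddChar.card_eq).symm⟩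
  by_contra hab
  obtain ⟨u, hu⟩ := ψ_sep hab
  exact hu (DFunLike.congr_fun h u)

theorem exists_chr (f : F → ℂ) (h0 : f 0 = 1) (hadd : ∀ a b, f (a + b) = f a * f b) :
    ∃ c : F, ∀ u, f u = ψ (c * u) := by
  obtain ⟨c, hc⟩ := chr_bijective.2 (⟨f, h0, hadd⟩ : AddChar F ℂ)
  exact ⟨c, fun u => (DFunLike.congr_fun hc u).symm⟩

variable (ρ)

/-- The projection to the eigenvectors of one root subgroup. -/
noncomputable def Pj (a : Rt) (c : F) : Module.End ℂ (Fin k → ℂ) :=
  CfsgLib.RadicalBound.proj (x a) ρ (chr c)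

variable {ρ}

theorem x_Pj (a : Rt) (c u : F) (v : Fin k → ℂ) : ρ (x a u) (Pj ρ a c v) = ψ (c * u) • Pj ρ a c v :=
  by
  have e := CfsgLib.RadicalBound.eig_proj (G := GG F) (V := F) (x a) (x_add a) ρ (chr c) u
  have e' := LinearMap.congr_fun e v
  rw [Module.End.mul_apply, LinearMap.smul_apply, chr_apply] at e'
  exact e'

theorem Pj_eigen [DecidableEq F] {a : Rt} (c c' : F) {v : Fin k → ℂ}
    (hv : ∀ u, ρ (x a u) v = ψ (c' * u) • v) : Pj ρ a c v = if c = c' then v else 0 := by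
  classical
  rw [Pj, CfsgLib.RadicalBound.proj_eigen (x a) ρ (chr c) (chr c') hv]
  simp only [chr_bijective.1.eq_iff]

theorem sum_Pj (a : Rt) (v : Fin k → ℂ) : ∑ c : F, Pj ρ a c v = v := by
  have e := DFunLike.congr_fun
    (CfsgLib.OrthDeg.sum_proj (G := GG F) (V := F) (x a) ρ (x_add a)) v
  rw [LinearMap.sum_apply, Module.End.one_apply] at e
  refine Eq.trans ?_ e
  exact Fintype.sum_bijective (chr : F → AddChar F ℂ) chr_bijective _ _ fun _ => rfl

theorem Pj_mem {S : Rt → Bool} {d : Rt → F} (a : Rt) (c : F)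
    (hS : ∀ b, S b = true → b ≠ a.rev ∧ (Nc a b ≠ 0 → S (sm a b) = true ∧ d (sm a b) = 0))
    {v : Fin k → ℂ} (hv : v ∈ Eig ρ S d) : Pj ρ a c v ∈ Eig ρ S d := by
  have hm : ∀ u, ρ (x a u) v ∈ Eig ρ S d := fun u =>
    Eig_mono (c := mv a u d) (fun b hb => ⟨hb, by
      rw [mv]; split_ifs with hN
      · rfl
      · rw [((hS b hb).2 hN).2, mul_zero, sub_zero]⟩)
      (move a u (fun b hb => ⟨(hS b hb).1, fun hN => ((hS b hb).2 hN).1⟩) hv)
  simp only [Pj, CfsgLib.RadicalBound.proj, LinearMap.smul_apply, LinearMap.sum_apply]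
  exact Submodule.smul_mem _ _ (Submodule.sum_mem _ fun u _ => Submodule.smul_mem _ _ (hm u))

/-- Linear functions of eigenvectors commute with projections. -/
theorem Pj_comm {a b : Rt} (g : GG F) (e : F) (he : e ≠ 0)
    (hg : ∀ u, g * x a u = x b (e * u) * g) (c : F) (v : Fin k → ℂ) :
    ρ g (Pj ρ a c v) = Pj ρ b (c / e) (ρ g v) := by
  simp only [Pj, CfsgLib.RadicalBound.proj, LinearMap.smul_apply, LinearMap.sum_apply, map_smul, map_sum]
  congr 1
  refine Fintype.sum_bijective _ (mulLeft_bijective₀ e he) _ _ fun u => ?_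
  rw [← rho_mul, hg, rho_mul]
  congr 1
  rw [chr_apply, chr_apply]
  congr 1
  field_simp

/-- Eigenspaces for different characters are independent. -/
theorem finrank_sum_le {ι : Type*} [Fintype ι] (S : Rt → Bool) (c : ι → Rt → F)
    (hc : ∀ i j, i ≠ j → ∃ a, S a = true ∧ c i a ≠ c j a) (A : ι → Submodule ℂ (Fin k → ℂ))
    (W : Submodule ℂ (Fin k → ℂ)) (hW : ∀ i, A i ≤ W) (hA : ∀ i, A i ≤ Eig ρ S (c i)) :
    ∑ i, Module.finrank ℂ (A i) ≤ Module.finrank ℂ W := by
  classical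
  have key : ∀ (n : ℕ) (s : Finset ι), s.card ≤ n → ∀ v : ι → Fin k → ℂ,
      (∀ i ∈ s, v i ∈ Eig ρ S (c i)) → ∑ i ∈ s, v i = 0 → ∀ i ∈ s, v i = 0 := by
    intro n
    induction n with
    | zero => intro s hs v _ _ i hi; exact absurd (Finset.card_pos.2 ⟨i, hi⟩) (by omega)
    | succ n ih =>
      intro s hs v hv h0 i hi
      by_cases hone : ∀ j ∈ s, j = i
      · rwa [Finset.sum_eq_single i (fun j hj hne => absurd (hone j hj) hne) (fun h => absurd hi h)] at h0
      push Not at hone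
      obtain ⟨j, hj, hji⟩ := hone
      obtain ⟨a, ha, hne⟩ := hc i j (Ne.symm hji)
      obtain ⟨u, hu⟩ := ψ_sep hne
      let w : ι → Fin k → ℂ := fun l => (ψ (c l a * u) - ψ (c j a * u)) • v l
      have hw : ∑ l ∈ s.erase j, w l = 0 := by
        have e1 : ρ (x a u) (∑ l ∈ s, v l) - ψ (c j a * u) • ∑ l ∈ s, v l = 0 := by
          rw [h0, map_zero, smul_zero, sub_zero]
        rw [map_sum, Finset.smul_sum, ← Finset.sum_sub_distrib,
          Finset.sum_congr rfl (g := w) (fun l hl => by rw [hv l hl a ha u, ← sub_smul])] at e1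
        rwa [← Finset.add_sum_erase s w hj,
          show w j = 0 by simp only [w, sub_self, zero_smul], zero_add] at e1
      have := ih (s.erase j) (by rw [Finset.card_erase_of_mem hj]; omega) w
        (fun l hl => Submodule.smul_mem _ _ (hv l (Finset.mem_of_mem_erase hl))) hw i
        (Finset.mem_erase.2 ⟨Ne.symm hji, hi⟩)
      exact (smul_eq_zero.1 this).resolve_left (sub_ne_zero.2 hu)
  let L : (∀ i, A i) →ₗ[ℂ] W :=
    ∑ i, (Submodule.inclusion (hW i)).comp (LinearMap.proj i)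
  have hL : Function.Injective L := by
    rw [← LinearMap.ker_eq_bot, LinearMap.ker_eq_bot']
    intro v hv
    funext i
    refine Subtype.ext (key _ Finset.univ le_rfl (fun l => (v l : Fin k → ℂ))
      (fun l _ => hA l (v l).2) ?_ i (Finset.mem_univ i))
    have := congrArg Subtype.val hv
    simpa [L, LinearMap.sum_apply, Submodule.coe_sum] using this
  have := LinearMap.finrank_le_finrank_of_injective hL
  rwa [Module.finrank_pi_fintype] at this

theorem finrank_pos {A : Submodule ℂ (Fin k → ℂ)} {v : Fin k → ℂ} (hv : v ∈ A) (h : v ≠ 0) :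
    0 < Module.finrank ℂ A :=
  Module.finrank_pos_iff_exists_ne_zero.2 ⟨⟨v, hv⟩, fun e => h (congrArg Subtype.val e)⟩

end CfsgLib.E8Deg
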