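import Cfsg.Agent.Lib.E8Deg.Eig

/-! An invariant Hermitian form. -/

set_option autoImplicit false
set_option linter.unusedSectionVars false
set_option maxHeartbeats 1000000

namespace CfsgLib.E8Deg

open ComplexConjugate

variable {G : Type*} [Group G] [Fintype G] {k : ℕ} (ρ : Representation ℂ G (Fin k → ℂ))

/-- The invariant Hermitian form. -/
noncomputable def form (a b : Fin k → ℂ) : ℂ := ∑ g : G, ∑ i, conj (ρ g a i) * ρ g b i

theorem form_inv (h : G) (a b : Fin k → ℂ) : form ρ (ρ h a) (ρ h b) = form ρ a b := by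
  refine Fintype.sum_equiv (Equiv.mulRight h) _ _ fun g => Finset.sum_congr rfl fun i _ => ?_
  rw [Equiv.coe_mulRight, map_mul]; rfl

theorem form_add_left (a a' b : Fin k → ℂ) : form ρ (a + a') b = form ρ a b + form ρ a' b := by
  simp [form, add_mul, Finset.sum_add_distrib]

theorem form_smul_left (z : ℂ) (a b : Fin k → ℂ) : form ρ (z • a) b = conj z * form ρ a b := by
  simp [form, Finset.mul_sum, mul_assoc]

theorem form_add_right (a b b' : Fin k → ℂ) : form ρ a (b + b') = form ρ a b + form ρ a b' := by
  simp [form, mul_add, Finset.sum_add_distrib]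

theorem form_smul_right (z : ℂ) (a b : Fin k → ℂ) : form ρ a (z • b) = z * form ρ a b := by
  simp [form, Finset.mul_sum, mul_left_comm]

theorem form_sub_left (a a' b : Fin k → ℂ) : form ρ (a - a') b = form ρ a b - form ρ a' b := by
  simp [form, sub_mul, Finset.sum_sub_distrib]

theorem form_sub_right (a b b' : Fin k → ℂ) : form ρ a (b - b') = form ρ a b - form ρ a b' := by
  simp [form, mul_sub, Finset.sum_sub_distrib]

theorem form_sum_left {ι : Type*} (s : Finset ι) (a : ι → Fin k → ℂ) (b : Fin k → ℂ) :
    form ρ (∑ j ∈ s, a j) b = ∑ j ∈ s, form ρ (a j) b := by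
  classical
  induction s using Finset.induction_on with
  | empty => simp [form]
  | insert j s hj ih => rw [Finset.sum_insert hj, Finset.sum_insert hj, form_add_left, ih]

theorem form_sum_right {ι : Type*} (s : Finset ι) (a : Fin k → ℂ) (b : ι → Fin k → ℂ) :
    form ρ a (∑ j ∈ s, b j) = ∑ j ∈ s, form ρ a (b j) := by
  classical
  induction s using Finset.induction_on with
  | empty => simp [form]
  | insert j s hj ih => rw [Finset.sum_insert hj, Finset.sum_insert hj, form_add_right, ih]

theorem eq_zero_of_form {a : Fin k → ℂ} (h : form ρ a a = 0) : a = 0 := by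
  have h' : ∑ g : G, ∑ i, Complex.normSq (ρ g a i) = 0 := by
    apply Complex.ofReal_injective
    push_cast
    rw [← h]
    exact Finset.sum_congr rfl fun g _ => Finset.sum_congr rfl fun i _ => Complex.normSq_eq_conj_mul_self
  funext i
  have h1 := (Finset.sum_eq_zero_iff_of_nonneg
    fun g _ => Finset.sum_nonneg fun i _ => Complex.normSq_nonneg _).1 h' 1 (Finset.mem_univ _)
  have h2 := (Finset.sum_eq_zero_iff_of_nonneg fun i _ => Complex.normSq_nonneg _).1 h1 i (Finset.mem_univ _)
  simpa using h2

variable {F : Type*} [Field F] [Fintype F] {σ : Representation ℂ (GG F) (Fin k → ℂ)} [Fintype (GG F)]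

/-- The averaged projection is self-adjoint. -/
theorem form_Pj_zero (a : Rt) (v w : Fin k → ℂ) :
    form σ (Pj σ a (0 : F) v) w = form σ v (Pj σ a (0 : F) w) := by
  have e : ∀ v, Pj σ a (0 : F) v = (Fintype.card F : ℂ)⁻¹ • ∑ u : F, σ (x a u) v := fun v => by
    simp [Pj, CfsgLib.RadicalBound.proj, chr_apply]
  rw [e, e, form_smul_left, form_smul_right, map_inv₀, Complex.conj_natCast, form_sum_left, form_sum_right]
  congr 1
  refine Fintype.sum_equiv (Equiv.neg F) _ _ fun u => ?_
  rw [Equiv.neg_apply]
  conv_lhs => rw [← form_inv σ (x a (-u)), ← rho_mul, x_neg_mul, map_one, Module.End.one_apply]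

/-- A unit vector fixed after projection is fixed. -/
theorem fixed_of_Pj {a : Rt} {g : GG F} {x : Fin k → ℂ} (hx : Pj σ a (0 : F) x = x)
    (hgx : Pj σ a (0 : F) (σ g x) = x) : σ g x = x := by
  refine sub_eq_zero.1 (eq_zero_of_form σ ?_)
  have e1 : form σ (σ g x) x = form σ x x := by
    calc form σ (σ g x) x = form σ (σ g x) (Pj σ a (0 : F) x) := by rw [hx]
      _ = form σ (Pj σ a (0 : F) (σ g x)) x := (form_Pj_zero a _ _).symm
      _ = _ := by rw [hgx]
  have e2 : form σ x (σ g x) = form σ x x := by
    calc form σ x (σ g x) = form σ (Pj σ a (0 : F) x) (σ g x) := by rw [hx]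
      _ = form σ x (Pj σ a (0 : F) (σ g x)) := form_Pj_zero a _ _
      _ = _ := by rw [hgx]
  rw [form_sub_left, form_sub_right, form_sub_right, e1, e2, form_inv]
  ring

end CfsgLib.E8Deg
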