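import Mathlib

/-! A module for the Hecke relations of type E₈ with operators of rank one has dimension at least eight. -/

set_option autoImplicit false
set_option linter.unusedSectionVars false
set_option maxHeartbeats 800000

namespace CfsgLib.E8Deg.Rank

variable {W : Type*} [AddCommGroup W] [Module ℂ W]

/-- The adjacent pairs of the diagram, in the order 8, 7, 6, 5, 4, 3, 1, 2. -/
def edge (i j : Fin 8) : Bool :=
  [(0, 1), (1, 0), (1, 2), (2, 1), (2, 3), (3, 2), (3, 4), (4, 3), (4, 5), (5, 4), (5, 6), (6, 5), (4, 7), (7, 4)].contains (i.val, j.val)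

/-- The nodes other than the first not adjacent to it. -/
def far (k : Fin 8) : Bool := k != 0 && k != 1

/-- The relations of the shifted generators. -/
structure Rels (q : ℕ) (A : Fin 8 → Module.End ℂ W) : Prop where
  sq : ∀ i w, A i (A i w) = (-(1 + q : ℂ)) • A i w
  braid : ∀ i j, edge i j = true → ∀ w, A i (A j (A i w)) - A j (A i (A j w)) = (q : ℂ) • (A i w - A j w)
  comm : ∀ i j, edge i j = false → i ≠ j → ∀ w, A i (A j w) = A j (A i w)

/-- An operator of rank one with a given vector in its image. -/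
def One (A : Module.End ℂ W) : Prop :=
  ∃ (v : W) (φ : W →ₗ[ℂ] ℂ), v ≠ 0 ∧ (∃ w, φ w = 1) ∧ ∀ w, A w = φ w • v

variable {q : ℕ} {A : Fin 8 → Module.End ℂ W}

theorem one_start {B : Module.End ℂ W} (h : ∀ w w', B w' ≠ 0 → ∃ a : ℂ, B w = a • B w') {x : W} (hx : B x ≠ 0) :
    One B := by
  choose a ha using fun w => h w x hx
  have hinj : ∀ a b : ℂ, a • B x = b • B x → a = b := fun a b e => smul_left_injective ℂ hx e
  refine ⟨B x, ⟨⟨a, fun w w' => hinj _ _ ?_⟩, fun z w => hinj _ _ ?_⟩, hx, ⟨x, hinj _ _ ?_⟩, ha⟩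
  · rw [add_smul, ← ha, ← ha, ← ha, map_add]
  · rw [← ha, map_smul, ha w, smul_smul, RingHom.id_apply, smul_eq_mul]
  · show a x • B x = (1 : ℂ) • B x
    rw [← ha, one_smul]

theorem one_next (hq : 0 < q) (h : Rels q A) {i j : Fin 8} (he : edge i j = true) (hi : One (A i)) :
    One (A j) := by
  obtain ⟨v, φ, hv, ⟨w1, hw1⟩, hφ⟩ := hi
  have hq0 : (q : ℂ) ≠ 0 := Nat.cast_ne_zero.2 (by omega)
  let T : Fin 8 → Module.End ℂ W := fun l => A l + (q : ℂ) • 1
  let U : Fin 8 → Module.End ℂ W := fun l => (q : ℂ)⁻¹ • (T l - ((q : ℂ) - 1) • 1)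
  have hT : ∀ l w, T l w = A l w + (q : ℂ) • w := fun l w => rfl
  have hU : ∀ l w, U l w = (q : ℂ)⁻¹ • (A l w + (q : ℂ) • w - ((q : ℂ) - 1) • w) := fun l w => rfl
  have hTU : ∀ l w, T l (U l w) = w := fun l w => by
    rw [hT, hU, map_smul, map_sub, map_add, map_smul, map_smul, h.sq]
    match_scalars <;> field_simp <;> ring
  have hUT : ∀ l w, U l (T l w) = w := fun l w => by
    rw [hU, hT, map_add, map_smul, h.sq]
    match_scalars <;> field_simp <;> ring
  let G : Module.End ℂ W := T i * T j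
  let G' : Module.End ℂ W := U j * U i
  have hG1 : ∀ w, G' (G w) = w := fun w => by
    show U j (U i (T i (T j w))) = w
    rw [hUT, hUT]
  have hG2 : ∀ w, G (G' w) = w := fun w => by
    show T i (T j (U j (U i w))) = w
    rw [hTU, hTU]
  have hc : ∀ w, A j (G w) = G (A i w) := fun w => by
    have b := h.braid i j he w
    show A j (T i (T j w)) = T i (T j (A i w))
    simp only [hT, map_add, map_smul]
    rw [sub_eq_iff_eq_add] at b
    rw [b, h.sq i w, h.sq j w]
    module
  refine ⟨G v, φ.comp G', fun e => hv ?_, ⟨G w1, ?_⟩, fun w => ?_⟩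
  · rw [← hG1 v, e, map_zero]
  · rw [LinearMap.comp_apply, hG1, hw1]
  · conv_lhs => rw [← hG2 w]
    rw [hc, hφ, map_smul]
    rfl

theorem eight_le [FiniteDimensional ℂ W] (hq : 1 < q) (h : Rels q A)
    (hone : ∀ w w', A 0 w' ≠ 0 → ∃ a : ℂ, A 0 w = a • A 0 w') {x : W} (hx : A 0 x ≠ 0)
    (hfar : ∀ k, far k = true → A k x = 0) : 8 ≤ Module.finrank ℂ W := by
  have hq' : 0 < q := by omega
  have h0 := one_start hone hx
  have h1 := one_next hq' h (i := 0) (j := 1) (by decide) h0
  have h2 := one_next hq' h (i := 1) (j := 2) (by decide) h1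
  have h3 := one_next hq' h (i := 2) (j := 3) (by decide) h2
  have h4 := one_next hq' h (i := 3) (j := 4) (by decide) h3
  have h5 := one_next hq' h (i := 4) (j := 5) (by decide) h4
  have h6 := one_next hq' h (i := 5) (j := 6) (by decide) h5
  have h7 := one_next hq' h (i := 4) (j := 7) (by decide) h4
  have hall : ∀ i, One (A i) := by
    intro i; fin_cases i <;> assumption
  choose v φ hv hw1 hφ using hall
  choose w1 hw1 using hw1
  set M : Fin 8 → Fin 8 → ℂ := fun i j => φ i (v j) with hM
  set s : ℂ := 1 + q with hs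
  have hs0 : s ≠ 0 := by rw [hs]; exact_mod_cast (show 1 + q ≠ 0 by omega)
  have hq0 : (q : ℂ) ≠ 0 := Nat.cast_ne_zero.2 (by omega)
  have hsq : s * s ≠ (q : ℂ) := by
    rw [hs]; exact_mod_cast (show (1 + q) * (1 + q) ≠ q by nlinarith)
  have hinj : ∀ i (a b : ℂ), a • v i = b • v i → a = b := fun i a b e => smul_left_injective ℂ (hv i) e
  have hA : ∀ i j w, A i (A j w) = (φ j w * M i j) • v i := fun i j w => by
    rw [hφ j, map_smul, hφ i, smul_smul]
  have hdiag : ∀ i, M i i = -s := fun i => hinj i _ _ (by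
    have e := h.sq i (w1 i)
    rw [hA, hφ, hw1, one_mul, one_smul] at e
    exact e)
  set p : Fin 8 → Fin 8 → ℂ := fun i j => M i j * M j i with hp
  have hpp : ∀ i, p i i = s * s := fun i => by simp [hp, hdiag]
  have hsym : ∀ i j, p i j = p j i := fun i j => mul_comm _ _
  have horth : ∀ i j, edge i j = false → i ≠ j → (M i j = 0 ∧ M j i = 0) ∨ ∀ l, p i l = p j l := by
    intro i j he hij
    by_cases h0 : M i j = 0
    · left
      refine ⟨h0, ?_⟩
      have e := h.comm i j he hij (w1 i)
      rw [hA, hA, h0, mul_zero, zero_smul, hw1, one_mul] at e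
      exact (smul_eq_zero.1 e.symm).resolve_right (hv j)
    · right
      have e := h.comm i j he hij (w1 j)
      rw [hA, hA, hw1, one_mul] at e
      have hvi : v i = ((φ i (w1 j) * M j i) / M i j) • v j := by
        rw [div_eq_inv_mul, mul_smul, ← e, smul_smul, inv_mul_cancel₀ h0, one_smul]
      set a := (φ i (w1 j) * M j i) / M i j
      have ha : a ≠ 0 := fun ha => hv i (by rw [hvi, ha, zero_smul])
      have hφij : ∀ w, φ i w * M j i * 1 = φ j w * M i j * a := fun w => hinj j _ _ (by
        have e := h.comm i j he hij w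
        rw [hA, hA, hvi, smul_smul] at e
        rw [mul_one, e])
      have hM0 : M j i = a * M j j := by
        show φ j (v i) = a * φ j (v j)
        rw [hvi, map_smul, smul_eq_mul]
      intro l
      have e1 : φ i (v l) * M j j = φ j (v l) * M i j := by
        have := hφij (v l)
        rw [hM0] at this
        exact mul_left_cancel₀ ha (by linear_combination this)
      have e2 : M i j = M j j / a := by
        have : φ i (v i) * M j j = φ j (v i) * M i j := by
          have := hφij (v i)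
          rw [hM0] at this
          exact mul_left_cancel₀ ha (by linear_combination this)
        change M i i * M j j = M j i * M i j at this
        rw [hM0, hdiag, hdiag] at this
        rw [hdiag, eq_div_iff ha]
        exact mul_left_cancel₀ hs0 (by linear_combination this)
      show φ i (v l) * φ l (v i) = φ j (v l) * φ l (v j)
      rw [hvi, map_smul, smul_eq_mul]
      refine mul_right_cancel₀ (show M j j ≠ 0 by rw [hdiag]; exact neg_ne_zero.2 hs0) ?_
      have e3 : M i j * a = M j j := by rw [e2, div_mul_cancel₀ _ ha]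
      linear_combination (a * φ l (v j)) * e1 + (φ j (v l) * φ l (v j)) * e3
  have hedge : ∀ i j, edge i j = true → p i j = q ∨ ∀ l, p i l = p j l := by
    intro i j he
    by_cases hq1 : p i j = q
    · exact Or.inl hq1
    · right
      have heq : ∀ w, A i w = A j w := fun w => by
        have e := h.braid i j he w
        rw [hφ i w, hφ j w] at e ⊢
        simp only [map_smul, smul_eq_mul, hφ i, hφ j, smul_smul] at e
        have : (p i j - q) • (φ i w • v i - φ j w • v j) = 0 := by
          have e' : φ i w * φ j (v i) * φ i (v j) = φ i w * p i j := by simp only [hp, hM]; ring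
          have e'' : φ j w * φ i (v j) * φ j (v i) = φ j w * p i j := by simp only [hp, hM]; ring
          rw [e', e''] at e
          rw [← sub_eq_zero] at e
          rw [← e]
          module
        exact sub_eq_zero.1 ((smul_eq_zero.1 this).resolve_left (sub_ne_zero.2 hq1))
      intro l
      refine hinj l _ _ ?_
      have e1 : ∀ t, φ l (v t) * φ t (v l) = p t l := fun t => mul_comm _ _
      have ei : A l (A i (v l)) = (p i l) • v l := by rw [hA, ← e1 i, mul_comm]
      have ej : A l (A j (v l)) = (p j l) • v l := by rw [hA, ← e1 j, mul_comm]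
      rw [← ei, ← ej, heq]
  have hfar' : ∀ k, far k = true → M k 0 = 0 ∧ M 0 k = 0 := fun k hk => by
    have he : edge k 0 = false ∧ k ≠ 0 := by revert hk k; decide
    have hAk : A k (A 0 x) = 0 := by rw [h.comm k 0 he.1 he.2, hfar k hk, map_zero]
    rw [hA, smul_eq_zero, mul_eq_zero] at hAk
    have hM0 : M k 0 = 0 := (hAk.resolve_right (hv k)).resolve_left (fun e => hx (by rw [hφ, e, zero_smul]))
    refine ⟨hM0, ?_⟩
    have e := h.comm k 0 he.1 he.2 (w1 k)
    rw [hA, hA, hM0, mul_zero, zero_smul, hw1, one_mul] at e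
    exact (smul_eq_zero.1 e.symm).resolve_right (hv 0)
  have p1 : ∀ l, far l = true → p 0 l = 0 := fun l hl => by simp [hp, (hfar' l hl).1, (hfar' l hl).2]
  have hss : s * s ≠ 0 := mul_ne_zero hs0 hs0
  have e01 : p 0 1 = q := (hedge 0 1 (by decide)).resolve_right fun e => by
    have e1 := e 2; rw [p1 2 (by decide)] at e1
    rcases hedge 1 2 (by decide) with h' | h'
    · exact hq0 (h'.symm.trans e1.symm)
    · exact hss (by rw [← hpp 2, ← h' 2]; exact e1.symm)
  have edge_eq : ∀ i j l, edge i j = true → p i l = q → p j l = 0 → p i j = q :=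
    fun i j l he hi hj => (hedge i j he).resolve_right fun e => hq0 (by rw [← hi, e l, hj])
  have none_eq : ∀ i j l, edge i j = false → i ≠ j → p i l = q → p j l = 0 → M i j = 0 ∧ M j i = 0 :=
    fun i j l he hij hi hj => (horth i j he hij).resolve_right fun e => hq0 (by rw [← hi, e l, hj])
  have zero_p : ∀ i j, (M i j = 0 ∧ M j i = 0) → p j i = 0 := fun i j h => by simp [hp, h.1, h.2]
  have sw : ∀ {i j}, p i j = q → p j i = q := fun {i j} h => (hsym j i).trans h
  have e12 := edge_eq 1 2 0 (by decide) (sw e01) (zero_p 0 2 (hfar' 2 (by decide)).symm)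
  have n13 := none_eq 1 3 0 (by decide) (by decide) (sw e01) (zero_p 0 3 (hfar' 3 (by decide)).symm)
  have n14 := none_eq 1 4 0 (by decide) (by decide) (sw e01) (zero_p 0 4 (hfar' 4 (by decide)).symm)
  have n15 := none_eq 1 5 0 (by decide) (by decide) (sw e01) (zero_p 0 5 (hfar' 5 (by decide)).symm)
  have n16 := none_eq 1 6 0 (by decide) (by decide) (sw e01) (zero_p 0 6 (hfar' 6 (by decide)).symm)
  have n17 := none_eq 1 7 0 (by decide) (by decide) (sw e01) (zero_p 0 7 (hfar' 7 (by decide)).symm)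
  have e23 := edge_eq 2 3 1 (by decide) (sw e12) (zero_p 1 3 n13)
  have n24 := none_eq 2 4 1 (by decide) (by decide) (sw e12) (zero_p 1 4 n14)
  have n25 := none_eq 2 5 1 (by decide) (by decide) (sw e12) (zero_p 1 5 n15)
  have n26 := none_eq 2 6 1 (by decide) (by decide) (sw e12) (zero_p 1 6 n16)
  have n27 := none_eq 2 7 1 (by decide) (by decide) (sw e12) (zero_p 1 7 n17)
  have e34 := edge_eq 3 4 2 (by decide) (sw e23) (zero_p 2 4 n24)
  have n35 := none_eq 3 5 2 (by decide) (by decide) (sw e23) (zero_p 2 5 n25)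
  have n36 := none_eq 3 6 2 (by decide) (by decide) (sw e23) (zero_p 2 6 n26)
  have n37 := none_eq 3 7 2 (by decide) (by decide) (sw e23) (zero_p 2 7 n27)
  have e45 := edge_eq 4 5 3 (by decide) (sw e34) (zero_p 3 5 n35)
  have n46 := none_eq 4 6 3 (by decide) (by decide) (sw e34) (zero_p 3 6 n36)
  have e47 := edge_eq 4 7 3 (by decide) (sw e34) (zero_p 3 7 n37)
  have e56 := edge_eq 5 6 4 (by decide) (sw e45) (zero_p 4 6 n46)
  have n76 := none_eq 7 6 4 (by decide) (by decide) (sw e47) (zero_p 4 6 n46)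
  have n67 : M 6 7 = 0 ∧ M 7 6 = 0 := n76.symm
  have n57 := none_eq 5 7 6 (by decide) (by decide) e56 (zero_p 6 7 n67)
  have hK2 : s * s - q ≠ 0 := sub_ne_zero.2 hsq
  have hK3 : s * (s * s - q) - q * s ≠ 0 := by
    have e : s * (s * s - q) - q * s = (((1 + q) * (1 + q ^ 2) : ℕ) : ℂ) := by rw [hs]; push_cast; ring
    rw [e]; exact_mod_cast (show (1 + q) * (1 + q ^ 2) ≠ 0 by positivity)
  have hK4 : s * (s * (s * s - q) - q * s) - q * (s * s - q) ≠ 0 := by
    have e : s * (s * (s * s - q) - q * s) - q * (s * s - q) = ((q ^ 4 + q ^ 3 + q ^ 2 + q + 1 : ℕ) : ℂ) := by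
      rw [hs]; push_cast; ring
    rw [e]; exact_mod_cast (show q ^ 4 + q ^ 3 + q ^ 2 + q + 1 ≠ 0 by positivity)
  set K2 : ℂ := s * s - q with hK2d
  set K3 : ℂ := s * K2 - q * s with hK3d
  set K4 : ℂ := s * K3 - q * K2 with hK4d
  have hD : s * s * K4 * K2 - q * (s * K3 * K2 + s * s * K4 + K4 * K2) ≠ 0 := by
    have e : s * s * K4 * K2 - q * (s * K3 * K2 + s * s * K4 + K4 * K2) =
        ((q ^ 8 + q ^ 7 + q + 1 : ℕ) : ℂ) - ((q ^ 5 + q ^ 4 + q ^ 3 : ℕ) : ℂ) := by
      rw [hK4d, hK3d, hK2d, hs]; push_cast; ring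
    have h8 : q ^ 5 + q ^ 4 + q ^ 3 < q ^ 8 + q ^ 7 + q + 1 := by
      have := Nat.pow_le_pow_right hq' (show 5 ≤ 7 by norm_num)
      have := Nat.pow_le_pow_right hq' (show 3 ≤ 4 by norm_num)
      have : 2 * q ^ 4 ≤ q ^ 8 := by
        rw [show q ^ 8 = q ^ 4 * q ^ 4 by ring]
        exact Nat.mul_le_mul_right _ (le_trans hq (Nat.le_self_pow (by norm_num) q))
      omega
    rw [e, sub_ne_zero]
    exact_mod_cast h8.ne'
  have hli : LinearIndependent ℂ v := by
    rw [Fintype.linearIndependent_iff]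
    intro α hα
    have row : ∀ i, ∑ j, α j * M i j = 0 := fun i => by
      have := congrArg (φ i) hα
      simpa [map_sum] using this
    obtain ⟨f20, f02⟩ := hfar' 2 (by decide)
    obtain ⟨f30, f03⟩ := hfar' 3 (by decide)
    obtain ⟨f40, f04⟩ := hfar' 4 (by decide)
    obtain ⟨f50, f05⟩ := hfar' 5 (by decide)
    obtain ⟨f60, f06⟩ := hfar' 6 (by decide)
    obtain ⟨f70, f07⟩ := hfar' 7 (by decide)
    have r0 := row 0
    have r1 := row 1
    have r2 := row 2
    have r3 := row 3
    have r4 := row 4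
    have r5 := row 5
    have r6 := row 6
    have r7 := row 7
    simp only [Fin.sum_univ_eight, hdiag, f20, f02, f30, f03, f40, f04, f50, f05, f60, f06, f70, f07, n13.1, n13.2, n14.1, n14.2, n15.1, n15.2, n16.1, n16.2, n17.1, n17.2, n24.1, n24.2, n25.1, n25.2, n26.1, n26.2, n27.1, n27.2, n35.1, n35.2, n36.1, n36.2, n37.1, n37.2, n46.1, n46.2, n57.1, n57.2, n67.1, n67.2,
      mul_zero, add_zero, zero_add] at r0 r1 r2 r3 r4 r5 r6 r7
    simp only [hp] at e01 e12 e23 e34 e45 e56 e47
    have g1 : K2 * α 1 = s * M 1 2 * α 2 := by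
      rw [hK2d]; linear_combination (-(M 1 0)) * r0 - s * r1 + α 1 * e01
    have g2 : K3 * α 2 = K2 * M 2 3 * α 3 := by
      rw [hK3d]; linear_combination (-K2) * r2 + M 2 1 * g1 + (s * α 2) * e12
    have g3 : K4 * α 3 = K3 * M 3 4 * α 4 := by
      rw [hK4d]; linear_combination (-K3) * r3 + M 3 2 * g2 + (K2 * α 3) * e23
    have g5 : K2 * α 5 = s * M 5 4 * α 4 := by
      rw [hK2d]; linear_combination (-(M 5 6)) * r6 - s * r5 + α 5 * e56
    have g4 : (s * s * K4 * K2 - q * (s * K3 * K2 + s * s * K4 + K4 * K2)) * α 4 = 0 := by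
      linear_combination (-(K4 * K2 * s)) * r4 + (K2 * s * M 4 3) * g3 + (K4 * s * M 4 5) * g5
        - (K4 * K2 * M 4 7) * r7 + (K2 * s * K3 * α 4) * e34 + (K4 * s * s * α 4) * e45 + (K4 * K2 * α 4) * e47
    have a4 : α 4 = 0 := (mul_eq_zero.1 g4).resolve_left hD
    have a3 : α 3 = 0 := by rw [a4, mul_zero] at g3; exact (mul_eq_zero.1 g3).resolve_left hK4
    have a2 : α 2 = 0 := by rw [a3, mul_zero] at g2; exact (mul_eq_zero.1 g2).resolve_left hK3
    have a1 : α 1 = 0 := by rw [a2, mul_zero] at g1; exact (mul_eq_zero.1 g1).resolve_left hK2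
    have a5 : α 5 = 0 := by rw [a4, mul_zero] at g5; exact (mul_eq_zero.1 g5).resolve_left hK2
    have a0 : α 0 = 0 := by simpa [a1, hs0] using r0
    have a6 : α 6 = 0 := by simpa [a5, hs0] using r6
    have a7 : α 7 = 0 := by simpa [a4, hs0] using r7
    intro i; fin_cases i <;> assumption
  simpa using hli.fintype_card_le_finrank

end CfsgLib.E8Deg.Rank
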