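import Cfsg.Agent.Lib.E8Deg.Torus
import Cfsg.Agent.Lib.E8Deg.Rank

/-! The Hecke operators on the vectors fixed by the torus and the positive unipotent group. -/

set_option autoImplicit false
set_option linter.unusedSectionVars false
set_option linter.dupNamespace false
set_option maxRecDepth 100000
set_option maxHeartbeats 1000000
set_option synthInstance.maxSize 4096
set_option synthInstance.maxHeartbeats 400000

namespace CfsgLib.E8Deg

open Cfsg.Lie CfsgLib.Chev CfsgLib.Chev.Chev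

/-- The positive roots other than a simple root. -/
noncomputable def Pi' (i : Ix) (a : Rt) : Bool := SP a && !decide (a = sr i)

theorem Pi'_iff {i : Ix} {a : Rt} : Pi' i a = true ↔ SP a = true ∧ a ≠ sr i := by simp [Pi']

theorem pi_ok : ∀ i : Ix, ∀ a, SP a = true → a ≠ sr i →
    SP (rf i a) = true ∧ rf i a ≠ sr i ∧ a ≠ (sr i).rev ∧
      (Nc (sr i) a ≠ 0 → SP (sm (sr i) a) = true ∧ sm (sr i) a ≠ sr i) := by decide +kernel

theorem sr_pos : ∀ i : Ix, SP (sr i) = true := by decide +kernel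

/-- The index of the long end. -/
def i1 : Ix := ⟨0, by decide⟩

/-- The index of a node in the order of the chain. -/
def ixk (n : Fin 8) : Ix := ![i8, i7, i6, i5, i4, i3, i1, i2] n

theorem ixk_surj : ∀ j : Ix, ∃ n : Fin 8, ixk n = j := by decide +kernel

theorem edge_ok : ∀ a b : Fin 8, Rank.edge a b = true →
    rf (ixk a) (sr (ixk b)) = sm (sr (ixk a)) (sr (ixk b)) ∧
    rf (ixk b) (sr (ixk a)) = sm (sr (ixk a)) (sr (ixk b)) ∧
    rf (ixk a) (sm (sr (ixk a)) (sr (ixk b))) = sr (ixk b) ∧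
    rf (ixk b) (sm (sr (ixk a)) (sr (ixk b))) = sr (ixk a) ∧
    Nc (sr (ixk a)) (sm (sr (ixk a)) (sr (ixk b))) = 0 ∧
    sm (sr (ixk a)) (sr (ixk b)) ≠ (sr (ixk a)).rev ∧
    Nc (sr (ixk b)) (sm (sr (ixk a)) (sr (ixk b))) = 0 ∧
    sm (sr (ixk a)) (sr (ixk b)) ≠ (sr (ixk b)).rev ∧
    Nc (sm (sr (ixk a)) (sr (ixk b))) (sr (ixk a)) = 0 ∧
    (sr (ixk a)) ≠ (sm (sr (ixk a)) (sr (ixk b))).rev ∧
    Nc (sr (ixk a)) (sr (ixk b)) ≠ 0 ∧ sr (ixk b) ≠ (sr (ixk a)).rev := by decide +kernel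

theorem nonedge_ok : ∀ a b : Fin 8, Rank.edge a b = false → a ≠ b →
    rf (ixk a) (sr (ixk b)) = sr (ixk b) ∧ rf (ixk b) (sr (ixk a)) = sr (ixk a) ∧
    Nc (sr (ixk a)) (sr (ixk b)) = 0 ∧ sr (ixk b) ≠ (sr (ixk a)).rev := by decide +kernel

/-- The sum of the first two simple roots of the chain. -/
def r87 : Rt := ⟨122, by decide⟩

/-- The sum of the second and third simple roots of the chain. -/
def r76 : Rt := ⟨124, by decide⟩

theorem y_ok : ∀ a, SP a = true → QQ a = false →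
    lev i8 a = true ∧ stab QQ (sr i8) a = true ∧ a ≠ sr i8 := by decide +kernel

theorem far_ok : ∀ n : Fin 8, Rank.far n = true → ∀ b, (b = sr (ixk n) ∨ b = (sr (ixk n)).rev) →
    lev i8 b = true ∧ stab QQ (sr i8) b = true ∧ rf i8 b = b ∧
      Nc b (sr i8) = 0 ∧ sr i8 ≠ b.rev ∧ b ≠ sr i8 := by decide +kernel

theorem QQ_pos : ∀ a, QQ a = true → SP a = true := by decide +kernel

theorem three_ok : rf i7 (sr i8) = r87 ∧ rf i7 r87 = sr i8 ∧ rf i8 r87 = sr i7 ∧ rf i8 (sr i7) = r87 ∧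
    rf i8 (sr i7) ≠ sr i8 ∧ R0 (sr i8) = true ∧ QQ (sr i7) = false ∧ sr i7 ≠ r87 ∧ sr i8 ≠ r87 ∧
    sr i7 ≠ sr i8 ∧ sr i8 ≠ sr i7 ∧ SP (sr i8) = true ∧ pair (sr i6) (sr i8) = 0 ∧
    rf i8 (sr i6) = sr i6 ∧ rf i7 (sr i6) = r76 ∧ pair (sr i7) (sr i8) = -1 ∧
    R0 (sr i8) = true ∧ lev i8 (sr i7) = true ∧ stab QQ (sr i8) (sr i7) = true ∧
    SP r87 = true ∧ SP (sr i7) = true ∧ Nc (sr i8) (sr i7) ≠ 0 ∧ sm (sr i8) (sr i7) = r87 ∧
    sr i7 ≠ (sr i8).rev ∧ rf i7 (sr i8) = rf i8 (sr i7) := by decide +kernel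

/-- The positive roots other than `α₁` and `α₁ + α₃`. -/
noncomputable def Q2 (a : Rt) : Bool := SP a && !decide (a = sr i8) && !decide (a = r87)

theorem Q2_iff {a : Rt} : Q2 a = true ↔ SP a = true ∧ a ≠ sr i8 ∧ a ≠ r87 := by simp [Q2, and_assoc]

/-- The positive roots other than `α₁` and `α₃`. -/
noncomputable def Q3 (a : Rt) : Bool := SP a && !decide (a = sr i7) && !decide (a = sr i8)

theorem Q2_img : ∀ a, Q2 a = true → Pi' i7 (rf i8 a) = true := by decide +kernel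

theorem Q2_p57 : ∀ a, Q2 a = true → a ≠ r87.rev ∧
    (Nc r87 a ≠ 0 → Q2 (sm r87 a) = true ∧ sm r87 a ≠ sr i7) := by decide +kernel

theorem Pi1_p56 : ∀ a, Pi' i8 a = true → a ≠ (sr i8).rev ∧
    (Nc (sr i8) a ≠ 0 → Pi' i8 (sm (sr i8) a) = true ∧ sm (sr i8) a ≠ sr i7) := by decide +kernel

theorem Q3_p42 : ∀ a, Q3 a = true → a ≠ (sr i7).rev ∧
    (Nc (sr i7) a ≠ 0 → Q3 (sm (sr i7) a) = true ∧ sm (sr i7) a ≠ r87) := by decide +kernel

theorem Pi1_u : ∀ a, Pi' i8 a = true → Nc (sr i8) a ≠ 0 → sm (sr i8) a = r87 → a = sr i7 := by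
  decide +kernel

theorem coef76 : ∀ j : Ix, (∑ k : Ix, CfsgLib.Chev.chevE8.C r76 k * CfsgLib.Chev.chevE8.A k (sr j)) =
    CfsgLib.Chev.chevE8.A i7 (sr j) + CfsgLib.Chev.chevE8.A i6 (sr j) := by decide +kernel

variable {F : Type*} [Field F] [Fintype F] {k : ℕ} (ρ : Representation ℂ (GG F) (Fin k → ℂ))

/-- The sum over a root subgroup. -/
noncomputable def avg (b : Rt) : Module.End ℂ (Fin k → ℂ) :=
  ∑ u : F, ρ (x b u)

variable {ρ}

theorem avg_apply (b : Rt) (v : Fin k → ℂ) : avg ρ b v = ∑ u : F, ρ (x b u) v := by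
  rw [avg, LinearMap.sum_apply]

theorem avg_hr (b r : Rt) (t : Fˣ) (v : Fin k → ℂ) : ρ (hr r t) (avg ρ b v) = avg ρ b (ρ (hr r t) v) := by
  rw [avg_apply, avg_apply, map_sum]
  refine Fintype.sum_bijective _ (mulLeft_bijective₀ (((t ^ pair r b : Fˣ) : F)) (Units.ne_zero _)) _ _ fun u => ?_
  rw [← rho_mul, hr_x, rho_mul]

theorem avg_self (b : Rt) (w : F) (v : Fin k → ℂ) : ρ (x b w) (avg ρ b v) = avg ρ b v := by
  rw [avg_apply, map_sum]
  refine Fintype.sum_equiv (Equiv.addLeft w) _ _ fun u => ?_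
  rw [Equiv.coe_addLeft, x_add, rho_mul]

variable (ρ)

/-- The vectors fixed by the torus and by all positive root subgroups. -/
noncomputable def X0 : Submodule ℂ (Fin k → ℂ) := Eig ρ SP (0 : Rt → F) ⊓ TF ρ

/-- The Hecke operator of a simple root. -/
noncomputable def Hop (i : Ix) : Module.End ℂ (Fin k → ℂ) := avg ρ (sr i) * ρ (nn F i)

variable {ρ}

theorem Hop_apply (i : Ix) (v : Fin k → ℂ) : Hop ρ i v = avg ρ (sr i) (ρ (nn F i) v) := rfl

theorem avg_absorb (b : Rt) (w : F) (v : Fin k → ℂ) : avg ρ b (ρ (x b w) v) = avg ρ b v := by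
  rw [avg_apply, avg_apply]
  refine Fintype.sum_equiv (Equiv.addRight w) _ _ fun u => ?_
  rw [Equiv.coe_addRight, x_add, rho_mul]

theorem avg_fixed {b : Rt} {v : Fin k → ℂ} (h : ∀ u, ρ (x b u) v = v) :
    avg ρ b v = (Fintype.card F : ℂ) • v := by
  rw [avg_apply, Finset.sum_congr rfl fun u _ => h u, Finset.sum_const, Finset.card_univ, ← Nat.cast_smul_eq_nsmul ℂ]

theorem Eig_zero_fix {S : Rt → Bool} {v : Fin k → ℂ} (hv : v ∈ Eig ρ S (0 : Rt → F)) {a : Rt}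
    (ha : S a = true) (u : F) : ρ (x a u) v = v := by
  rw [hv a ha u, Pi.zero_apply, zero_mul, AddChar.map_zero_eq_one, one_smul]

theorem nn_avg (i : Ix) (b : Rt) (v : Fin k → ℂ) :
    ρ (nn F i) (avg ρ b v) = avg ρ (rf i b) (ρ (nn F i) v) := by
  rw [avg_apply, avg_apply, map_sum]
  refine Fintype.sum_bijective _ (mulLeft_bijective₀ (et F i b) (et_ne i b)) _ _ fun u => ?_
  rw [← rho_mul, nn_x, rho_mul]

theorem avg_comm {a b : Rt} (hne : a ≠ b.rev) (hN : Nc b a = 0) (v : Fin k → ℂ) :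
    avg ρ a (avg ρ b v) = avg ρ b (avg ρ a v) := by
  simp only [avg_apply, map_sum]
  rw [Finset.sum_comm]
  exact Finset.sum_congr rfl fun u _ => Finset.sum_congr rfl fun w _ => by
    rw [← rho_mul, conj_zero hne hN, rho_mul]

theorem Pj_swap {a b : Rt} (hne : b ≠ a.rev) (hN : Nc a b = 0) (c d : F) (v : Fin k → ℂ) :
    Pj ρ a c (Pj ρ b d v) = Pj ρ b d (Pj ρ a c v) := by
  simp only [Pj, CfsgLib.RadicalBound.proj, LinearMap.smul_apply, LinearMap.sum_apply, map_smul, map_sum,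
    Finset.smul_sum, smul_smul]
  rw [Finset.sum_comm]
  refine Finset.sum_congr rfl fun u _ => Finset.sum_congr rfl fun w _ => ?_
  rw [← rho_mul, ← conj_zero hne hN, rho_mul]
  congr 1
  ring

theorem pi_zero {i : Ix} {v : Fin k → ℂ} (hv : v ∈ Eig ρ (Pi' i) (0 : Rt → F)) :
    ρ (nn F i) v ∈ Eig ρ (Pi' i) (0 : Rt → F) ∧ ∀ u, ρ (x (sr i) u) v ∈ Eig ρ (Pi' i) (0 : Rt → F) := by
  refine ⟨move_nn i (fun a ha => ⟨?_, by simp⟩) hv, fun u => Eig_mono (fun a ha => ⟨ha, ?_⟩)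
    (move (sr i) u (fun a ha => ?_) hv)⟩
  · obtain ⟨h1, h2⟩ := Pi'_iff.1 ha
    exact Pi'_iff.2 ⟨(pi_ok i a h1 h2).1, (pi_ok i a h1 h2).2.1⟩
  · simp [mv]
  · obtain ⟨h1, h2⟩ := Pi'_iff.1 ha
    exact ⟨(pi_ok i a h1 h2).2.2.1, fun hN => Pi'_iff.2 ((pi_ok i a h1 h2).2.2.2 hN)⟩

theorem SP_to_pi {i : Ix} {c : Rt → F} {v : Fin k → ℂ} (hv : v ∈ Eig ρ SP c)
    (hc : ∀ a, a ≠ sr i → c a = 0) : v ∈ Eig ρ (Pi' i) (0 : Rt → F) :=
  Eig_mono (fun a ha => ⟨(Pi'_iff.1 ha).1, by rw [hc a (Pi'_iff.1 ha).2]; rfl⟩) hv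

theorem Hop_pos (i : Ix) {v : Fin k → ℂ} (h1 : v ∈ Eig ρ SP (0 : Rt → F)) :
    Hop ρ i v ∈ Eig ρ SP (0 : Rt → F) := fun a ha u => by
  rw [Pi.zero_apply, zero_mul, AddChar.map_zero_eq_one, one_smul, Hop_apply]
  by_cases hai : a = sr i
  · rw [hai, avg_self]
  · have hm : avg ρ (sr i) (ρ (nn F i) v) ∈ Eig ρ (Pi' i) (0 : Rt → F) := by
      rw [avg_apply]
      exact Submodule.sum_mem _ fun w _ => (pi_zero (pi_zero (SP_to_pi h1 fun a _ => rfl)).1).2 w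
    exact Eig_zero_fix hm (Pi'_iff.2 ⟨ha, hai⟩) u

theorem Hop_mem (i : Ix) {v : Fin k → ℂ} (hv : v ∈ X0 ρ) : Hop ρ i v ∈ X0 ρ := by
  obtain ⟨h1, h2⟩ := Submodule.mem_inf.1 hv
  refine Submodule.mem_inf.2 ⟨Hop_pos i h1, fun j t => ?_⟩
  rw [Hop_apply, hh_eq, avg_hr, ← hh_eq, nn_TF i h2 j t]

theorem fixed_nr {i : Ix} {v : Fin k → ℂ} (h : ∀ b, b = sr i ∨ b = (sr i).rev → ∀ u, ρ (x b u) v = v)
    (t : Fˣ) : ρ (nr (sr i) t) v = v := by
  rw [nr, rho_mul, rho_mul, h _ (Or.inl rfl), h _ (Or.inr rfl), h _ (Or.inl rfl)]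

theorem quad (i : Ix) {v : Fin k → ℂ} (hv : v ∈ X0 ρ) :
    Hop ρ i (Hop ρ i v) = (Fintype.card F : ℂ) • v + ((Fintype.card F : ℂ) - 1) • Hop ρ i v := by
  classical
  obtain ⟨h1, h2⟩ := Submodule.mem_inf.1 hv
  have hfix : ∀ u, ρ (x (sr i) u) v = v := fun u => Eig_zero_fix h1 (sr_pos i) u
  have hterm : ∀ w : F, w ≠ 0 →
      avg ρ (sr i) (ρ (nn F i) (ρ (x (sr i) w) (ρ (nn F i) v))) = avg ρ (sr i) (ρ (nn F i) v) := by
    intro w hw
    have e : x (sr i).rev (-w) = x (sr i) (-w⁻¹) * nr (sr i) (Units.mk0 w⁻¹ (inv_ne_zero hw)) * x (sr i) (-w⁻¹) := by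
      simp only [nr, Units.val_mk0, inv_inv, ← mul_assoc, x_neg_mul, one_mul]
      rw [mul_assoc, x_mul_neg, mul_one]
    rw [← rho_mul, nn_x_self, rho_mul, nn_nn h2, e, rho_mul, rho_mul, hfix, nr_fix h2, avg_absorb]
    rfl
  rw [Hop_apply, Hop_apply, avg_apply (sr i) (ρ (nn F i) v), map_sum, map_sum,
    ← Finset.add_sum_erase _ _ (Finset.mem_univ (0 : F)),
    Finset.sum_congr rfl fun w hw => hterm w (Finset.mem_erase.1 hw).1, Finset.sum_const,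
    Finset.card_erase_of_mem (Finset.mem_univ _), Finset.card_univ, x_zero, map_one, Module.End.one_apply,
    nn_nn h2, avg_fixed hfix, ← avg_apply, ← Nat.cast_smul_eq_nsmul ℂ, Nat.cast_sub Fintype.card_pos, Nat.cast_one]

theorem Hop_comm {a b : Fin 8} (he : Rank.edge a b = false) (hne : a ≠ b) {v : Fin k → ℂ} (hv : v ∈ X0 ρ) :
    Hop ρ (ixk a) (Hop ρ (ixk b) v) = Hop ρ (ixk b) (Hop ρ (ixk a) v) := by
  obtain ⟨hr1, hr2, hN, hrev⟩ := nonedge_ok a b he hne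
  simp only [Hop_apply]
  rw [nn_avg, nn_avg, hr1, hr2, comm_nn hr1 (Submodule.mem_inf.1 hv).2,
    avg_comm (fun e => hrev (by rw [e, Fin.rev_rev])) (by
      show CfsgLib.Chev.chevE8.N (sr (ixk b)) (sr (ixk a)) = 0
      rw [CfsgLib.Chev.chevE8.N_anti]; exact neg_eq_zero.2 hN)]

theorem Hop_braid {a b : Fin 8} (he : Rank.edge a b = true) {v : Fin k → ℂ} (hv : v ∈ X0 ρ) :
    Hop ρ (ixk a) (Hop ρ (ixk b) (Hop ρ (ixk a) v)) = Hop ρ (ixk b) (Hop ρ (ixk a) (Hop ρ (ixk b) v)) := by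
  obtain ⟨h1, h2, h3, h4, hNa, hnea, hNb, hneb, hNa', hnea', hN, hne⟩ := edge_ok a b he
  set i := ixk a
  set j := ixk b
  set r := sm (sr i) (sr j) with hr
  have hL : Hop ρ i (Hop ρ j (Hop ρ i v)) =
      avg ρ (sr i) (avg ρ r (avg ρ (sr j) (ρ (nn F i) (ρ (nn F j) (ρ (nn F i) v))))) := by
    simp only [Hop_apply]
    rw [nn_avg j, h2, nn_avg i, h1, nn_avg i, h3]
  have hR : Hop ρ j (Hop ρ i (Hop ρ j v)) =
      avg ρ (sr j) (avg ρ r (avg ρ (sr i) (ρ (nn F j) (ρ (nn F i) (ρ (nn F j) v))))) := by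
    simp only [Hop_apply]
    rw [nn_avg i, h1, nn_avg j, h2, nn_avg j, h4]
  rw [hL, hR, braid_nn h1 h2 (Submodule.mem_inf.1 hv).2]
  set w := ρ (nn F j) (ρ (nn F i) (ρ (nn F j) v))
  have hsym : ∀ {p p' : Rt}, Nc p p' = 0 → Nc p' p = 0 := fun {p p'} h => by
    show CfsgLib.Chev.chevE8.N p' p = 0
    rw [CfsgLib.Chev.chevE8.N_anti]; exact neg_eq_zero.2 h
  rw [← avg_comm hnea hNa, ← avg_comm hneb hNb]
  simp only [avg_apply (sr i), avg_apply (sr j), map_sum]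
  conv_rhs => rw [Finset.sum_comm]
  refine Finset.sum_congr rfl fun c _ => Finset.sum_congr rfl fun d _ => ?_
  conv_rhs => rw [← rho_mul (ρ := ρ) (x (sr j) d) (x (sr i) c), conj_ne hne hN c d, rho_mul, rho_mul]
  set f : F := (kap (sr i) (sr j) : F) * -c * d
  have e1 : ρ (x (sr j) d) (ρ (x r f) w) = ρ (x r f) (ρ (x (sr j) d) w) := by
    rw [← rho_mul, ← conj_zero hneb hNb, rho_mul]
  have e2 : ρ (x (sr i) c) (ρ (x r f) (ρ (x (sr j) d) w)) = ρ (x r f) (ρ (x (sr i) c) (ρ (x (sr j) d) w)) := by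
    rw [← rho_mul, ← conj_zero hnea hNa, rho_mul]
  rw [e1, e2, avg_absorb]

/-- The shifted Hecke operators on the fixed vectors. -/
noncomputable def Aop (ρ : Representation ℂ (GG F) (Fin k → ℂ)) (n : Fin 8) : Module.End ℂ (X0 ρ) :=
  (Hop ρ (ixk n) - (Fintype.card F : ℂ) • 1).restrict fun v hv =>
    Submodule.sub_mem _ (Hop_mem _ hv) (Submodule.smul_mem _ _ hv)

theorem Aop_val (n : Fin 8) (w : X0 ρ) :
    (Aop ρ n w : Fin k → ℂ) = Hop ρ (ixk n) w - (Fintype.card F : ℂ) • (w : Fin k → ℂ) := rfl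

theorem rels : Rank.Rels (Fintype.card F) (Aop ρ) where
  sq n w := Subtype.ext (by
    simp only [Submodule.coe_smul, Aop_val, map_sub, map_smul, quad _ w.2]
    module)
  braid a b he w := Subtype.ext (by
    simp only [Submodule.coe_smul, Submodule.coe_sub, Aop_val, map_sub, map_smul, quad _ w.2,
      Hop_braid he w.2]
    module)
  comm a b he hne w := Subtype.ext (by
    simp only [Aop_val, map_sub, map_smul, Hop_comm he hne w.2]
    module)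

variable (h0 : Line ρ (one' top) R0 (lev i8))

theorem ixk_zero : ixk 0 = i8 := rfl

include h0 in
theorem rank_first (w w' : X0 ρ) (hw' : Aop ρ 0 w' ≠ 0) : ∃ a : ℂ, Aop ρ 0 w = a • Aop ρ 0 w' := by
  classical
  let E := Eig ρ SP (sgl (sr i8) (1 : F))
  have hE : Module.finrank ℂ E ≤ 1 := by
    have e := (h0 (sr i8) three_ok.2.2.2.2.2.1 1 one_ne_zero).1
    rw [show uni (one' top) R0 = QQ from rfl] at e
    rw [← e]
    exact Submodule.finrank_mono (Eig_mono fun a ha => ⟨QQ_pos a ha, rfl⟩)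
  let Φ : X0 ρ → (Fin k → ℂ) := fun z => Pj ρ (sr i8) 1 (ρ (nn F i8) (z : Fin k → ℂ))
  have hΦ : ∀ z, Φ z ∈ E := fun z => by
    have hn := (pi_zero (i := i8) (SP_to_pi (Submodule.mem_inf.1 z.2).1 fun a _ => rfl)).1
    intro a ha u
    by_cases h : a = sr i8
    · rw [h, sgl_self]; exact x_Pj _ _ _ _
    · rw [sgl_ne h]
      refine Pj_mem (sr i8) 1 (fun b hb => ?_) hn a (Pi'_iff.2 ⟨ha, h⟩) u
      obtain ⟨g1, g2⟩ := Pi'_iff.1 hb
      exact ⟨(pi_ok i8 b g1 g2).2.2.1, fun hN => ⟨Pi'_iff.2 ((pi_ok i8 b g1 g2).2.2.2 hN), rfl⟩⟩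
  have hker : ∀ z, Φ z = 0 → Aop ρ 0 z = 0 := by
    intro z hz
    obtain ⟨h1, h2⟩ := Submodule.mem_inf.1 z.2
    have hall : ∀ s : F, s ≠ 0 → Pj ρ (sr i8) s (ρ (nn F i8) (z : Fin k → ℂ)) = 0 := by
      intro s hs
      have e := Pj_comm (ρ := ρ) (hr (sr i7) (Units.mk0 s hs)) (s⁻¹) (inv_ne_zero hs)
        (fun u => by
          rw [hr_x, three_ok.2.2.2.2.2.2.2.2.2.2.2.2.2.2.2.1, zpow_neg_one, Units.val_inv_eq_inv_val,
            Units.val_mk0]) 1 (ρ (nn F i8) (z : Fin k → ℂ))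
      rw [one_div, inv_inv, TF_fix (nn_TF i8 h2)] at e
      rw [← e]
      show ρ _ (Φ z) = 0
      rw [hz, map_zero]
    have hfix : ∀ u, ρ (x (sr i8) u) (ρ (nn F i8) (z : Fin k → ℂ)) = ρ (nn F i8) (z : Fin k → ℂ) := by
      intro u
      have e : Pj ρ (sr i8) 0 (ρ (nn F i8) (z : Fin k → ℂ)) = ρ (nn F i8) (z : Fin k → ℂ) := by
        conv_rhs => rw [← sum_Pj (ρ := ρ) (sr i8) (ρ (nn F i8) (z : Fin k → ℂ))]
        rw [Finset.sum_eq_single (0 : F) (fun s _ hs => hall s hs) (by simp)]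
      rw [← e, x_Pj, zero_mul, AddChar.map_zero_eq_one, one_smul]
    have hneg : ∀ u, ρ (x (sr i8).rev u) (z : Fin k → ℂ) = z := by
      intro u
      refine sub_eq_zero.1 (rho_inj ρ (g := nn F i8) ?_)
      have hrf : rf i8 (sr i8).rev = sr i8 := CfsgLib.Chev.chevE8.refl_p_rev i8
      rw [map_sub, ← rho_mul (ρ := ρ) (nn F i8), nn_x, hrf, rho_mul, hfix, sub_self]
    have hn : ρ (nn F i8) (z : Fin k → ℂ) = z := by
      rw [nn_eq]
      exact fixed_nr (fun b hb u => by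
        rcases hb with rfl | rfl
        · exact Eig_zero_fix h1 (sr_pos i8) u
        · exact hneg u) 1
    refine Subtype.ext ?_
    rw [Aop_val, ixk_zero, Hop_apply, hn, avg_fixed fun u => Eig_zero_fix h1 (sr_pos i8) u, sub_self]
    rfl
  have hw0 : (⟨Φ w', hΦ w'⟩ : E) ≠ 0 := fun e => hw' (hker w' (congrArg Subtype.val e))
  have h1 : Module.finrank ℂ E = 1 := le_antisymm hE
    (Module.finrank_pos_iff_exists_ne_zero.2 ⟨⟨Φ w', hΦ w'⟩, hw0⟩)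
  obtain ⟨a, ha⟩ := (finrank_eq_one_iff_of_nonzero' _ hw0).1 h1 ⟨Φ w, hΦ w⟩
  refine ⟨a, sub_eq_zero.1 ?_⟩
  rw [← map_smul, ← map_sub]
  refine hker _ ?_
  have ha' : a • Φ w' = Φ w := congrArg Subtype.val ha
  simp only [Φ, Submodule.coe_sub, Submodule.coe_smul, map_sub, map_smul] at ha' ⊢
  rw [ha', sub_self]

end CfsgLib.E8Deg
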