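import Cfsg.Agent.Lib.E8Deg.Eig
import Cfsg.Agent.Lib.Chev.PerfectData
import Cfsg.Agent.Lib.Chev.GraphAut

/-! The characters of the Heisenberg radical of E₈. -/

set_option autoImplicit false
set_option linter.unusedSectionVars false
set_option linter.dupNamespace false
set_option maxRecDepth 100000
set_option maxHeartbeats 1000000
set_option synthInstance.maxSize 4096
set_option synthInstance.maxHeartbeats 400000

namespace CfsgLib.E8Deg

open Cfsg.Lie CfsgLib.Chev CfsgLib.Chev.Chev

/-- The coefficient of a fundamental root. -/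
noncomputable abbrev cf (j : Ix) (r : Rt) : ℤ := CfsgLib.Chev.chevE8.V r j

/-- The highest root. -/
def top : Rt := ⟨239, by decide⟩

/-- The second highest root. -/
def hi : Rt := ⟨238, by decide⟩

/-- A root of middle degree. -/
def bZero : Rt := ⟨227, by decide⟩
/-- A root of middle degree. -/
def bOne : Rt := ⟨220, by decide⟩
/-- A root of middle degree. -/
def bTwo : Rt := ⟨215, by decide⟩

/-- The index of the first node of the chain. -/
def i8 : Ix := ⟨7, by decide⟩
/-- The index of the second node of the chain. -/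
def i7 : Ix := ⟨6, by decide⟩

/-- The roots of a given coefficient. -/
noncomputable def rad (e : Ix) (r : Rt) : Bool := decide (cf e r = 1)

/-- The roots with coefficient zero. -/
noncomputable def lev (e : Ix) (r : Rt) : Bool := decide (cf e r = 0)

/-- The radical without its centre. -/
noncomputable def R0 : Rt → Bool := rad i8

/-- The whole radical. -/
noncomputable def QQ (r : Rt) : Bool := decide (r = top) || R0 r

/-- The part near the second highest root. -/
noncomputable def mid (r : Rt) : Bool := R0 r && decide (cf i7 r = 2)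

/-- The part far from the second highest root. -/
noncomputable def low (r : Rt) : Bool := R0 r && decide (cf i7 r = 1)

/-- The centre and the upper half. -/
noncomputable def upper (r : Rt) : Bool := decide (r = top) || (R0 r && decide (2 ≤ cf i7 r))

/-- The centre, the highest part and the middle part. -/
noncomputable def near : Rt → Bool := upper

theorem QQ_basic : QQ top = true ∧ QQ hi = true ∧ R0 hi = true ∧ top ≠ hi ∧ upper top = true ∧
    upper hi = true ∧ R0 top = false ∧ rf i8 top = hi ∧ rf i8 hi = top ∧ CfsgLib.Chev.chevE8.A i8 top = 1 ∧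
    CfsgLib.Chev.chevE8.A i7 hi = 1 ∧ CfsgLib.Chev.chevE8.A i7 top = 0 ∧ hi ≠ top.rev := by decide +kernel

theorem QQ_comm : ∀ a b, QQ a = true → QQ b = true →
    b ≠ a.rev ∧ (Nc a b ≠ 0 → sm a b = top) := by decide +kernel

theorem upper_comm : ∀ a b, upper a = true → upper b = true → b ≠ a.rev ∧ Nc a b = 0 := by decide +kernel

theorem upper_sub : ∀ a, upper a = true → QQ a = true := by decide +kernel

theorem lev_QQ : ∀ g a, lev i8 g = true → QQ a = true →
    a ≠ g.rev ∧ (Nc g a ≠ 0 → QQ (sm g a) = true) := by decide +kernel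

theorem centre_move : ∀ a, upper a = true → a ≠ top →
    Nc top a.rev ≠ 0 ∧ R0 (sm top a.rev) = true ∧ Nc (sm top a.rev) a ≠ 0 ∧ sm (sm top a.rev) a = top ∧
      ∀ b, upper b = true → b ≠ (sm top a.rev).rev ∧ (b ≠ a → Nc (sm top a.rev) b = 0) := by decide +kernel

theorem upper_card : Fintype.card {a : Rt // upper a = true ∧ a ≠ top} = 28 := by decide +kernel

theorem eight_move : ∀ a, (a = top ∨ a = hi) → a ≠ (sr i8).rev ∧
    (a = hi → Nc (sr i8) a ≠ 0 ∧ sm (sr i8) a = top) ∧ (a = top → Nc (sr i8) a = 0) := by decide +kernel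

theorem mid_move : ∀ j, mid j = true →
    Nc hi j.rev ≠ 0 ∧ lev i8 (sm hi j.rev) = true ∧ Nc (sm hi j.rev) j ≠ 0 ∧ sm (sm hi j.rev) j = hi ∧
      j ≠ hi ∧ j ≠ top ∧ upper j = true ∧
      ∀ a, upper a = true → a ≠ (sm hi j.rev).rev ∧ (a ≠ j → Nc (sm hi j.rev) a = 0) := by decide +kernel

theorem mid_card : Fintype.card {a : Rt // mid a = true} = 27 := by decide +kernel

theorem upper_split : ∀ a, upper a = true → a = top ∨ a = hi ∨ mid a = true := by decide +kernel

theorem QQ_split : ∀ a, QQ a = true → upper a = true ∨ low a = true ∨ a = sr i8 := by decide +kernel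

theorem low_facts : low bZero = true ∧ low bOne = true ∧ low bTwo = true ∧ QQ bZero = true ∧ QQ bOne = true ∧
    QQ bTwo = true ∧ bZero ≠ bOne ∧ bZero ≠ bTwo ∧ bOne ≠ bTwo ∧ upper bZero = false ∧ upper bOne = false ∧
    upper bTwo = false ∧ QQ (sr i8) = true := by decide +kernel

theorem low_up : ∀ r, low r = true → r ≠ bZero →
    ∃ i : Ix, r < rf i r ∧ rf i hi = hi ∧ rf i top = top ∧
      ∀ a, QQ (rf i a) = QQ a ∧ low (rf i a) = low a ∧ mid (rf i a) = mid a := by decide +kernel

theorem low_move : ∀ j, (j = bOne ∨ j = bTwo) →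
    lev i8 (sm bZero j.rev) = true ∧ Nc (sm bZero j.rev) j ≠ 0 ∧ sm (sm bZero j.rev) j = bZero ∧
      ∀ a, (upper a = true ∨ a = bZero ∨ a = bOne ∨ a = bTwo) → a ≠ j →
        Nc (sm bZero j.rev) a = 0 ∨ mid (sm (sm bZero j.rev) a) = true := by decide +kernel

theorem eight_low :
    lev i8 (sm (sr i8) bZero.rev) = true ∧ Nc (sm (sr i8) bZero.rev) bZero ≠ 0 ∧
      sm (sm (sr i8) bZero.rev) bZero = sr i8 ∧
      ∀ a, upper a = true → Nc (sm (sr i8) bZero.rev) a = 0 ∨
        mid (sm (sm (sr i8) bZero.rev) a) = true ∨ low (sm (sm (sr i8) bZero.rev) a) = true := by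
  decide +kernel

theorem R0_up : ∀ r, R0 r = true → r ≠ hi →
    ∃ i : Ix, r < rf i r ∧ rf i top = top ∧ ∀ a, QQ (rf i a) = QQ a ∧ R0 (rf i a) = R0 a := by decide +kernel

theorem R0_lt : ∀ r, R0 r = true → r.val ≤ 238 := by decide +kernel

theorem low_lt : ∀ r, low r = true → r.val ≤ 227 := by decide +kernel

variable {F : Type*} [Field F] [Fintype F] {k : ℕ}

/-- The function supported at one root. -/
noncomputable def sgl (r : Rt) (s : F) (a : Rt) : F := if a = r then s else 0

theorem sgl_self (r : Rt) (s : F) : sgl r s r = s := if_pos rfl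

theorem sgl_ne {r a : Rt} (h : a ≠ r) (s : F) : sgl r s a = 0 := if_neg h

theorem sgl_zero (r : Rt) : sgl r (0 : F) = 0 := funext fun a => by simp [sgl]

theorem simpleE8 (F : Type*) [Field F] : IsSimpleGroup ↥(Cfsg.Lie.chevE8.group F) :=
  (simple_of_conn chevE8 connE8 ⟨0, by decide⟩ (chevE8.group_perfect witE8 fun _ c hc => allowOne_ne hc)).1

variable {ρ : Representation ℂ (GG F) (Fin k → ℂ)}

theorem faithful (hρ : ρ.IsIrreducible) (hk : 2 ≤ k) {g : GG F} (hg : ρ g = 1) : g = 1 := by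
  haveI := simpleE8 F
  rcases IsSimpleGroup.eq_bot_or_eq_top_of_normal (MonoidHom.ker ρ) inferInstance with h | h
  · rw [← Subgroup.mem_bot, ← h]
    exact hg
  · exfalso
    have hall : ∀ y, ρ y = 1 := fun y => MonoidHom.mem_ker.1 (h ▸ Subgroup.mem_top y)
    haveI : IsSimpleOrder (Subrepresentation ρ) := hρ
    let w : Fin k → ℂ := Pi.single ⟨0, by omega⟩ 1
    let U : Subrepresentation ρ := ⟨ℂ ∙ w, fun y v hv => by rw [hall y]; exact hv⟩
    have hw : w ≠ 0 := fun h => by simpa [w] using congrFun h ⟨0, by omega⟩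
    rcases IsSimpleOrder.eq_bot_or_eq_top U with hU | hU
    · exact hw (Submodule.span_singleton_eq_bot.1 (congrArg Subrepresentation.toSubmodule hU))
    · have e : (ℂ ∙ w) = ⊤ := congrArg Subrepresentation.toSubmodule hU
      have := finrank_span_singleton (K := ℂ) hw
      rw [e, finrank_top, Module.finrank_fintype_fun_eq_card, Fintype.card_fin] at this
      omega

/-- The roots on which a character is prescribed. -/
def one' (r : Rt) (a : Rt) : Bool := decide (a = r)

theorem one'_iff {r a : Rt} : one' r a = true ↔ a = r := decide_eq_true_iff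

/-- Extension of an eigenvector to further commuting roots. -/
theorem extend {S : Rt → Bool} {c : Rt → F} {v : Fin k → ℂ} (hv0 : v ≠ 0) (hv : v ∈ Eig ρ S c) (B : Rt → Bool)
    (hS : ∀ a, S a = true → B a = true)
    (hB : ∀ a b, B a = true → B b = true → b ≠ a.rev ∧ (Nc a b ≠ 0 → S (sm a b) = true ∧ c (sm a b) = 0)) :
    ∃ (c' : Rt → F) (w : Fin k → ℂ), w ≠ 0 ∧ w ∈ Eig ρ B c' ∧ ∀ a, S a = true → c' a = c a := by
  classical
  suffices key : ∀ T : Finset Rt, (∀ a ∈ T, B a = true ∧ S a = false) →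
      ∃ (c' : Rt → F) (w : Fin k → ℂ), w ≠ 0 ∧ (∀ a, S a = true → c' a = c a) ∧
        w ∈ Eig ρ (fun a => decide (a ∈ T) || S a) c' by
    obtain ⟨c', w, hw, hc, hm⟩ := key (Finset.univ.filter fun a => B a = true ∧ S a = false)
      (fun a ha => (Finset.mem_filter.1 ha).2)
    refine ⟨c', w, hw, Eig_mono (fun a ha => ⟨?_, rfl⟩) hm, hc⟩
    cases hSa : S a <;> simp [hSa, ha]
  intro T
  induction T using Finset.induction_on with
  | empty => exact fun _ => ⟨c, v, hv0, fun _ _ => rfl, Eig_mono (fun a ha => ⟨by simpa using ha, rfl⟩) hv⟩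
  | insert b T hb ih =>
    intro hT
    obtain ⟨hbB, hbS⟩ := hT b (Finset.mem_insert_self _ _)
    obtain ⟨c', w, hw, hc, hm⟩ := ih (fun a ha => hT a (Finset.mem_insert_of_mem ha))
    obtain ⟨d, hd⟩ : ∃ d, Pj ρ b d w ≠ 0 := by
      by_contra hcon
      push Not at hcon
      exact hw (by rw [← sum_Pj (ρ := ρ) b w]; exact Finset.sum_eq_zero fun d _ => hcon d)
    have hm' := Pj_mem b d (fun a ha => by
      have haB : B a = true := by
        simp only [Bool.or_eq_true, decide_eq_true_eq] at ha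
        rcases ha with h | h
        · exact (hT a (Finset.mem_insert_of_mem h)).1
        · exact hS a h
      refine ⟨(hB b a hbB haB).1, fun hN => ?_⟩
      obtain ⟨h1, h2⟩ := (hB b a hbB haB).2 hN
      exact ⟨by simp [h1], by rw [hc _ h1, h2]⟩) hm
    refine ⟨Function.update c' b d, _, hd, fun a ha => ?_, fun a ha u => ?_⟩
    · rw [Function.update_of_ne (fun e => by rw [e, hbS] at ha; exact Bool.false_ne_true ha), hc a ha]
    · by_cases hab : a = b
      · subst hab
        rw [Function.update_self]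
        exact x_Pj a d u w
      · rw [Function.update_of_ne hab]
        refine hm' a ?_ u
        simpa [hab] using ha

theorem top_torus {s s' : F} (hs : s ≠ 0) (hs' : s' ≠ 0) :
    Module.finrank ℂ (Eig ρ (one' top) (sgl top s)) ≤ Module.finrank ℂ (Eig ρ (one' top) (sgl top s')) := by
  refine finrank_le_of_move (hh i8 (Units.mk0 (s / s') (div_ne_zero hs hs'))) fun v hv =>
    move_hh i8 _ (fun a ha => ?_) hv
  rw [one'_iff.1 ha, sgl_self, sgl_self, QQ_basic.2.2.2.2.2.2.2.2.2.1, zpow_one, Units.val_inv_eq_inv_val,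
    Units.val_mk0]
  field_simp

theorem top_swap {s : F} (hs : s ≠ 0) :
    Module.finrank ℂ (Eig ρ (one' top) (sgl top (1 : F))) ≤ Module.finrank ℂ (Eig ρ (one' hi) (sgl hi s)) := by
  refine (top_torus one_ne_zero (mul_ne_zero (et_ne i8 top) hs)).trans (finrank_le_of_move (nn F i8) fun v hv =>
    move_nn i8 (fun a ha => ?_) hv)
  rw [one'_iff.1 ha, QQ_basic.2.2.2.2.2.2.2.2.1, one'_iff, sgl_self, sgl_self, ← mul_assoc, et_sq, one_mul]
  exact ⟨rfl, rfl⟩

/-- The characters of the centre occur with large multiplicity. -/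
theorem top_big (hρ : ρ.IsIrreducible) (hk : 2 ≤ k) :
    Fintype.card F ^ 28 ≤ Module.finrank ℂ (Eig ρ (one' top) (sgl top (1 : F))) := by
  classical
  obtain ⟨s, v, hs, hv⟩ : ∃ (s : F) (v : Fin k → ℂ), s ≠ 0 ∧ Pj ρ top s v ≠ 0 := by
    by_contra hcon
    push Not at hcon
    refine x_ne_one (F := F) top (faithful hρ hk (LinearMap.ext fun v => ?_))
    have h0 : Pj ρ top 0 v = v := by
      conv_rhs => rw [← sum_Pj (ρ := ρ) top v]
      rw [Finset.sum_eq_single 0 (fun c _ hc => hcon c v hc) (by simp)]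
    have e1 := x_Pj (ρ := ρ) top 0 1 v
    rw [h0, zero_mul, AddChar.map_zero_eq_one, one_smul] at e1
    exact e1
  refine le_trans ?_ (top_torus hs one_ne_zero)
  obtain ⟨c, w, hw0, hw, hc⟩ := extend (ρ := ρ) (S := one' top) (c := sgl top s) hv
    (fun a ha u => by rw [one'_iff.1 ha, sgl_self]; exact x_Pj top s u v) upper
    (fun a ha => by rw [one'_iff.1 ha]; exact QQ_basic.2.2.2.2.1)
    (fun a b ha hb => ⟨(upper_comm a b ha hb).1, fun hN => absurd (upper_comm a b ha hb).2 hN⟩)
  have hct : c top = s := by rw [hc top (one'_iff.2 rfl), sgl_self]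
  have hfree : ∀ T : Finset Rt, (∀ a ∈ T, upper a = true ∧ a ≠ top) → ∀ c₁ : Rt → F, c₁ top = s →
      (∀ a, a ∉ T → c₁ a = c a) → 1 ≤ Module.finrank ℂ (Eig ρ upper c₁) := by
    intro T
    induction T using Finset.induction_on with
    | empty =>
      intro _ c₁ _ h1
      rw [show c₁ = c from funext fun a => h1 a (Finset.notMem_empty a)]
      exact finrank_pos hw hw0
    | insert j T hj ih =>
      intro hT c₁ hh h1
      obtain ⟨hju, hjt⟩ := hT j (Finset.mem_insert_self _ _)
      obtain ⟨-, -, hN, hS, hz⟩ := centre_move j hju hjt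
      set g := sm top j.rev
      set t : F := (c j - c₁ j) / ((kap g j : F) * s) with ht
      refine le_trans (ih (fun a ha => hT a (Finset.mem_insert_of_mem ha)) (Function.update c₁ j (c j))
        (by rw [Function.update_of_ne (Ne.symm hjt), hh]) (fun a ha => ?_))
        (finrank_le_of_move (x g t) fun v hv => Eig_mono (fun a ha => ⟨ha, ?_⟩) (move g t (fun a ha => ?_) hv))
      · by_cases haj : a = j
        · subst haj; rw [Function.update_self]
        · rw [Function.update_of_ne haj, h1 a (by simp [haj, ha])]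
      · by_cases haj : a = j
        · subst haj
          rw [mv, if_neg hN, hS, Function.update_self, Function.update_of_ne (Ne.symm hjt), hh, ht]
          have := kap_ne (F := F) hN
          field_simp
          ring
        · rw [mv, if_pos ((hz a ha).2 haj), Function.update_of_ne haj]
      · refine ⟨(hz a ha).1, fun hN' => ?_⟩
        by_cases haj : a = j
        · subst haj; rw [hS]; exact QQ_basic.2.2.2.2.1
        · exact absurd ((hz a ha).2 haj) hN'
  let H := {a : Rt // upper a = true ∧ a ≠ top}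
  let cd : (H → F) → Rt → F := fun d a =>
    if h : upper a = true ∧ a ≠ top then d ⟨a, h⟩ else c a
  have hsum := finrank_sum_le (ρ := ρ) upper cd (fun d d' hne => by
      obtain ⟨b, hb⟩ := Function.ne_iff.1 hne
      exact ⟨b.1, b.2.1, by simp only [cd, dif_pos b.2]; exact hb⟩)
    (fun d => Eig ρ upper (cd d)) (Eig ρ (one' top) (sgl top s))
    (fun d => Eig_mono fun a ha => ⟨by rw [one'_iff.1 ha]; exact QQ_basic.2.2.2.2.1, by
      rw [one'_iff.1 ha, sgl_self]; simp [cd, hct]⟩) (fun _ => le_rfl)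
  refine le_trans ?_ hsum
  refine le_trans (le_of_eq ?_) (Finset.card_nsmul_le_sum _ _ 1 fun d _ =>
    hfree (Finset.univ.filter fun a => upper a = true ∧ a ≠ top) (fun a ha => (Finset.mem_filter.1 ha).2) (cd d)
      (by simp [cd, hct]) (fun a ha => dif_neg (by simpa using ha)))
  rw [Finset.card_univ, smul_eq_mul, mul_one, Fintype.card_fun, upper_card]

theorem top_split :
    (Fintype.card F - 1) * Module.finrank ℂ (Eig ρ (one' top) (sgl top (1 : F))) +
      Module.finrank ℂ (Eig ρ (one' top) (0 : Rt → F)) ≤ k := by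
  classical
  have hsum := finrank_sum_le (ρ := ρ) (one' top) (fun s : F => sgl top s)
    (fun s s' h => ⟨top, one'_iff.2 rfl, by rw [sgl_self, sgl_self]; exact h⟩)
    (fun s => Eig ρ (one' top) (sgl top s)) ⊤ (fun _ => le_top) (fun _ => le_rfl)
  rw [finrank_top, Module.finrank_fintype_fun_eq_card, Fintype.card_fin,
    ← Finset.add_sum_erase _ _ (Finset.mem_univ (0 : F)), sgl_zero, add_comm] at hsum
  refine le_trans (Nat.add_le_add_right ?_ _) hsum
  refine le_trans (le_of_eq ?_) (Finset.card_nsmul_le_sum _ _ _ fun s hs =>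
    top_torus one_ne_zero (Finset.mem_erase.1 hs).1)
  rw [Finset.card_erase_of_mem (Finset.mem_univ _), Finset.card_univ, smul_eq_mul]

/-- A subspace is no larger than the sum of spaces receiving its projections. -/
theorem finrank_le_sum (W : Submodule ℂ (Fin k → ℂ)) (a : Rt) (A : F → Submodule ℂ (Fin k → ℂ))
    (h : ∀ v ∈ W, ∀ c, Pj ρ a c v ∈ A c) :
    Module.finrank ℂ W ≤ ∑ c, Module.finrank ℂ (A c) := by
  let L : W →ₗ[ℂ] ∀ c, A c :=
    LinearMap.pi fun c => LinearMap.codRestrict (A c) ((Pj ρ a c).comp W.subtype) fun v => h v v.2 c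
  have hL : Function.Injective L := fun v w e => Subtype.ext (by
    rw [← sum_Pj (ρ := ρ) a (v : Fin k → ℂ), ← sum_Pj (ρ := ρ) a (w : Fin k → ℂ)]
    exact Finset.sum_congr rfl fun c _ => congrArg Subtype.val (congrFun e c))
  have := LinearMap.finrank_le_finrank_of_injective hL
  rwa [Module.finrank_pi_fintype] at this

theorem fixed_pos (hρ : ρ.IsIrreducible) (hk : 2 ≤ k) :
    ∃ (c : Rt → F) (v : Fin k → ℂ), v ≠ 0 ∧ v ∈ Eig ρ QQ c ∧ c top = 0 ∧ c hi ≠ 0 := by
  classical
  set S : Rt → Bool := fun a => decide (a = top) || decide (a = hi) with hS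
  have hSiff : ∀ a, S a = true ↔ a = top ∨ a = hi := fun a => by simp [hS]
  set cc : F → F → Rt → F := fun s t a => if a = hi then t else sgl top s a with hcc
  suffices hex : ∃ v : Fin k → ℂ, v ≠ 0 ∧ v ∈ Eig ρ S (cc 0 1) by
    obtain ⟨v, hv0, hv⟩ := hex
    obtain ⟨c, w, hw0, hw, hc⟩ := extend (ρ := ρ) hv0 hv QQ
      (fun a ha => by rcases (hSiff a).1 ha with rfl | rfl; exacts [QQ_basic.1, QQ_basic.2.1])
      (fun a b ha hb => ⟨(QQ_comm a b ha hb).1, fun hN => by
        rw [(QQ_comm a b ha hb).2 hN]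
        exact ⟨(hSiff top).2 (Or.inl rfl), by
          rw [hcc]; simp only [if_neg QQ_basic.2.2.2.1, sgl_self]⟩⟩)
    refine ⟨c, w, hw0, hw, ?_, ?_⟩
    · rw [hc top ((hSiff top).2 (Or.inl rfl))]
      simp only [hcc, if_neg QQ_basic.2.2.2.1, sgl_self]
    · rw [hc hi ((hSiff hi).2 (Or.inr rfl))]
      simp [hcc]
  by_contra hcon
  push Not at hcon
  set E := Module.finrank ℂ (Eig ρ (one' top) (sgl top (1 : F))) with hE
  have hEpos : 0 < E := lt_of_lt_of_le (pow_pos Fintype.card_pos 28) (top_big hρ hk)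
  have hfib : ∀ s : F, s ≠ 0 → ∀ t, Module.finrank ℂ (Eig ρ S (cc s 1)) ≤ Module.finrank ℂ (Eig ρ S (cc s t)) := by
    intro s hs t
    obtain ⟨-, hh1, -⟩ := eight_move hi (Or.inr rfl)
    obtain ⟨-, -, hh2⟩ := eight_move top (Or.inl rfl)
    refine finrank_le_of_move (x (sr i8) ((1 - t) / ((kap (sr i8) hi : F) * s))) fun v hv =>
      Eig_mono (fun a ha => ⟨ha, ?_⟩) (move (sr i8) _ (fun a ha => ⟨(eight_move a ((hSiff a).1 ha)).1, fun hN => ?_⟩) hv)
    · rcases (hSiff a).1 ha with rfl | rfl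
      · rw [mv, if_pos (hh2 rfl)]
        simp only [hcc, if_neg QQ_basic.2.2.2.1]
      · rw [mv, if_neg (hh1 rfl).1, (hh1 rfl).2]
        simp only [hcc, if_true, if_neg QQ_basic.2.2.2.1, sgl_self]
        have := kap_ne (F := F) (hh1 rfl).1
        field_simp
        ring
    · rcases (hSiff a).1 ha with rfl | rfl
      · exact absurd (hh2 rfl) hN
      · rw [(hh1 rfl).2]; exact (hSiff top).2 (Or.inl rfl)
  have hsumle : ∀ s : F, s ≠ 0 → Fintype.card F * Module.finrank ℂ (Eig ρ S (cc s 1)) ≤ E := by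
    intro s hs
    refine le_trans ?_ ((finrank_sum_le (ρ := ρ) S (fun t => cc s t)
      (fun t t' h => ⟨hi, (hSiff hi).2 (Or.inr rfl), by simpa [hcc] using h⟩)
      (fun t => Eig ρ S (cc s t)) (Eig ρ (one' top) (sgl top s))
      (fun t => Eig_mono fun a ha => ⟨(hSiff a).2 (Or.inl (one'_iff.1 ha)), by
        rw [one'_iff.1 ha]; simp only [hcc, if_neg QQ_basic.2.2.2.1]⟩)
      (fun _ => le_rfl)).trans (top_torus hs one_ne_zero))
    refine le_trans (le_of_eq ?_) (Finset.card_nsmul_le_sum _ _ _ fun t _ => hfib s hs t)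
    rw [Finset.card_univ, smul_eq_mul]
  have hW := finrank_le_sum (ρ := ρ) (Eig ρ (one' hi) (sgl hi (1 : F))) top (fun s => Eig ρ S (cc s 1))
    (fun v hv s a ha u => by
      rcases (hSiff a).1 ha with rfl | rfl
      · simp only [hcc, if_neg QQ_basic.2.2.2.1, sgl_self]; exact x_Pj top s u v
      · simp only [hcc, if_true]
        refine (Pj_mem (c := s) (d := sgl hi (1 : F)) top (fun b hb => ?_) hv hi (one'_iff.2 rfl) u).trans
          (by rw [sgl_self])
        rw [one'_iff.1 hb]
        exact ⟨QQ_basic.2.2.2.2.2.2.2.2.2.2.2.2, fun hN =>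
          absurd (upper_comm top hi QQ_basic.2.2.2.2.1 QQ_basic.2.2.2.2.2.1).2 hN⟩)
  have hle := (top_swap (ρ := ρ) one_ne_zero).trans hW
  have h0 : Module.finrank ℂ (Eig ρ S (cc 0 1)) = 0 := by
    rw [Submodule.finrank_eq_zero, Submodule.eq_bot_iff]
    intro v hv
    by_contra h
    exact hcon v h hv
  rw [← Finset.add_sum_erase _ _ (Finset.mem_univ (0 : F)), h0, zero_add] at hle
  have hmul := Nat.mul_le_mul_left (Fintype.card F) hle
  rw [Finset.mul_sum] at hmul
  have hub : ∑ s ∈ (Finset.univ : Finset F).erase 0, Fintype.card F * Module.finrank ℂ (Eig ρ S (cc s 1)) ≤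
      (Fintype.card F - 1) * E := by
    refine le_trans (Finset.sum_le_card_nsmul _ _ E fun s hs => hsumle s (Finset.mem_erase.1 hs).1) (le_of_eq ?_)
    rw [Finset.card_erase_of_mem (Finset.mem_univ _), Finset.card_univ, smul_eq_mul]
  have hlt : (Fintype.card F - 1) * E < Fintype.card F * E :=
    Nat.mul_lt_mul_of_pos_right (Nat.sub_lt Fintype.card_pos one_pos) hEpos
  exact absurd (lt_of_le_of_lt (hmul.trans hub) hlt) (lt_irrefl _)

theorem mid_clear {c : Rt → F} (hc : c hi ≠ 0) (hct : c top = 0) {v : Fin k → ℂ} (hv0 : v ≠ 0)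
    (hv : v ∈ Eig ρ QQ c) :
    ∃ (c' : Rt → F) (v' : Fin k → ℂ), v' ≠ 0 ∧ v' ∈ Eig ρ QQ c' ∧ c' hi ≠ 0 ∧ c' top = 0 ∧
      ∀ a, mid a = true → c' a = 0 := by
  classical
  suffices key : ∀ T : Finset Rt, (∀ a ∈ T, mid a = true) →
      ∃ (c' : Rt → F) (v' : Fin k → ℂ), v' ≠ 0 ∧ v' ∈ Eig ρ QQ c' ∧ c' hi = c hi ∧ c' top = 0 ∧
        ∀ a ∈ T, c' a = 0 by
    obtain ⟨c', v', h1, h2, h3, h4, h5⟩ := key (Finset.univ.filter fun a => mid a = true)
      (fun a ha => (Finset.mem_filter.1 ha).2)
    exact ⟨c', v', h1, h2, h3 ▸ hc, h4, fun a ha => h5 a (Finset.mem_filter.2 ⟨Finset.mem_univ _, ha⟩)⟩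
  intro T
  induction T using Finset.induction_on with
  | empty => exact fun _ => ⟨c, v, hv0, hv, rfl, hct, by simp⟩
  | insert j T hj ih =>
    intro hT
    obtain ⟨c', v', h1, h2, h3, h4, h5⟩ := ih (fun a ha => hT a (Finset.mem_insert_of_mem ha))
    obtain ⟨-, hg, hN, hS, hjh, hjt, -, hz⟩ := mid_move j (hT j (Finset.mem_insert_self _ _))
    set g := sm hi j.rev
    set t : F := c' j / ((kap g j : F) * c hi) with ht
    refine ⟨mv g t c', ρ (x g t) v', fun h => h1 (rho_inj ρ h),
      move g t (fun a ha => lev_QQ g a hg ha) h2, ?_, ?_, fun a ha => ?_⟩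
    · rw [mv, if_pos ((hz hi QQ_basic.2.2.2.2.2.1).2 (Ne.symm hjh)), h3]
    · rw [mv, if_pos ((hz top QQ_basic.2.2.2.2.1).2 (Ne.symm hjt)), h4]
    · rcases Finset.mem_insert.1 ha with rfl | ha'
      · rw [mv, if_neg hN, hS, h3, ht]
        have := kap_ne (F := F) hN
        field_simp
        ring
      · have hne : a ≠ j := fun h => hj (h ▸ ha')
        rw [mv, if_pos ((hz a (mid_move a (hT a ha)).2.2.2.2.2.2.1).2 hne), h5 a ha']

/-- All values of the coordinates near the second highest root occur equally often. -/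
theorem mid_free {c c' : Rt → F} (hc : c hi ≠ 0) (h : c' hi = c hi) (ht : c' top = c top) :
    Module.finrank ℂ (Eig ρ upper c) ≤ Module.finrank ℂ (Eig ρ upper c') := by
  classical
  suffices key : ∀ T : Finset Rt, (∀ a ∈ T, mid a = true) → ∀ c₁ : Rt → F, c₁ hi = c hi → c₁ top = c top →
      (∀ a, a ∉ T → c₁ a = c a) →
      Module.finrank ℂ (Eig ρ upper c) ≤ Module.finrank ℂ (Eig ρ upper c₁) by
    refine le_trans (key (Finset.univ.filter fun a => mid a = true) (fun a ha => (Finset.mem_filter.1 ha).2)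
      (fun a => if mid a = true then c' a else c a)
      (by rw [if_neg (fun e => (mid_move hi e).2.2.2.2.1 rfl)])
      (by rw [if_neg (fun e => (mid_move top e).2.2.2.2.2.1 rfl)])
      (fun a ha => if_neg (by simpa using ha))) (Submodule.finrank_mono (Eig_mono fun a ha => ⟨ha, ?_⟩))
    by_cases hm : mid a = true
    · rw [if_pos hm]
    · rw [if_neg hm]
      rcases upper_split a ha with rfl | rfl | h'
      · rw [ht]
      · rw [h]
      · exact absurd h' hm
  intro T
  induction T using Finset.induction_on with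
  | empty => exact fun _ c₁ _ _ h1 =>
      le_of_eq (by rw [show c₁ = c from funext fun a => h1 a (Finset.notMem_empty a)])
  | insert j T hj ih =>
    intro hT c₁ hh htt h1
    obtain ⟨-, hg, hN, hS, hjh, hjt, hju, hz⟩ := mid_move j (hT j (Finset.mem_insert_self _ _))
    set g := sm hi j.rev
    set t : F := (c j - c₁ j) / ((kap g j : F) * c hi) with ht
    refine le_trans (ih (fun a ha => hT a (Finset.mem_insert_of_mem ha)) (Function.update c₁ j (c j))
      (by rw [Function.update_of_ne (Ne.symm hjh), hh]) (by rw [Function.update_of_ne (Ne.symm hjt), htt])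
      (fun a ha => ?_))
      (finrank_le_of_move (x g t) fun v hv => Eig_mono (fun a ha => ⟨ha, ?_⟩) (move g t (fun a ha => ?_) hv))
    · by_cases haj : a = j
      · subst haj; rw [Function.update_self]
      · rw [Function.update_of_ne haj, h1 a (by simp [haj, ha])]
    · by_cases haj : a = j
      · subst haj
        rw [mv, if_neg hN, hS, Function.update_self, Function.update_of_ne (Ne.symm hjh), hh, ht]
        have := kap_ne (F := F) hN
        field_simp
        ring
      · rw [mv, if_pos ((hz a ha).2 haj), Function.update_of_ne haj]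
    · refine ⟨(hz a ha).1, fun hN' => ?_⟩
      by_cases haj : a = j
      · subst haj; rw [hS]; exact QQ_basic.2.2.2.2.2.1
      · exact absurd ((hz a ha).2 haj) hN'

/-- A normalised character whose coordinate at the top of the middle part is non-zero gives a large orbit. -/
theorem big_low {c : Rt → F} (hc : c hi ≠ 0) (hct : c top = 0) (hz : ∀ a, mid a = true → c a = 0)
    {v : Fin k → ℂ} (hv0 : v ≠ 0) (hv : v ∈ Eig ρ QQ c) (hb : c bZero ≠ 0) :
    Fintype.card F ^ 29 ≤ Module.finrank ℂ (Eig ρ (one' top) (0 : Rt → F)) := by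
  classical
  obtain ⟨l0, l1, l2, q0, q1, q2, n01, n02, n12, u0, u1, u2, -⟩ := low_facts
  obtain ⟨hg1, hN1, hS1, hd1⟩ := low_move bOne (Or.inl rfl)
  obtain ⟨hg2, hN2, hS2, hd2⟩ := low_move bTwo (Or.inr rfl)
  set g1 := sm bZero bOne.rev
  set g2 := sm bZero bTwo.rev
  have hne : ∀ a b, upper a = true → upper b = false → a ≠ b := fun a b h1 h2 e => by
    rw [e, h2] at h1; exact Bool.false_ne_true h1
  have hsame : ∀ (g j : Rt) (t : F) (c : Rt → F), (∀ a, mid a = true → c a = 0) →
      (∀ a, (upper a = true ∨ a = bZero ∨ a = bOne ∨ a = bTwo) → a ≠ j → Nc g a = 0 ∨ mid (sm g a) = true) →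
      ∀ a, (upper a = true ∨ a = bZero ∨ a = bOne ∨ a = bTwo) → a ≠ j → mv g t c a = c a := by
    intro g j t c hc hd a ha haj
    rw [mv]; split_ifs with hN
    · rfl
    · rw [hc _ ((hd a ha haj).resolve_left hN), mul_zero, sub_zero]
  have hone : ∀ d : F × F, ∃ (c' : Rt → F) (w : Fin k → ℂ), w ≠ 0 ∧ w ∈ Eig ρ QQ c' ∧
      (∀ a, upper a = true → c' a = c a) ∧ c' bOne = d.1 ∧ c' bTwo = d.2 := by
    intro d
    set t1 : F := (c bOne - d.1) / ((kap g1 bOne : F) * c bZero) with ht1
    set c1 := mv g1 t1 c with hc1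
    have hm1 : ∀ a, mid a = true → c1 a = 0 := fun a ha => by
      have hu := (mid_move a ha).2.2.2.2.2.2.1
      rw [hc1, hsame g1 bOne t1 c hz hd1 a (Or.inl hu) (hne a _ hu u1), hz a ha]
    have hb0 : c1 bZero = c bZero := hsame g1 bOne t1 c hz hd1 bZero (Or.inr (Or.inl rfl)) n01
    set t2 : F := (c1 bTwo - d.2) / ((kap g2 bTwo : F) * c bZero) with ht2
    refine ⟨mv g2 t2 c1, ρ (x g2 t2) (ρ (x g1 t1) v), fun e => hv0 (rho_inj ρ (rho_inj ρ e)),
      move g2 t2 (fun a ha => lev_QQ g2 a hg2 ha) (move g1 t1 (fun a ha => lev_QQ g1 a hg1 ha) hv),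
      fun a ha => ?_, ?_, ?_⟩
    · rw [hsame g2 bTwo t2 c1 hm1 hd2 a (Or.inl ha) (hne a _ ha u2), hc1,
        hsame g1 bOne t1 c hz hd1 a (Or.inl ha) (hne a _ ha u1)]
    · rw [hsame g2 bTwo t2 c1 hm1 hd2 bOne (Or.inr (Or.inr (Or.inl rfl))) n12, hc1, mv, if_neg hN1, hS1, ht1]
      have := kap_ne (F := F) hN1
      field_simp
      ring
    · rw [mv, if_neg hN2, hS2, hb0, ht2]
      have := kap_ne (F := F) hN2
      field_simp
      ring
  choose cd wd hw0 hwm hwu hw1 hw2 using hone
  have htwo : Fintype.card F ^ 2 ≤ Module.finrank ℂ (Eig ρ upper c) := by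
    have := finrank_sum_le (ρ := ρ) QQ cd (fun d d' hne => by
        by_cases h : d.1 = d'.1
        · exact ⟨bTwo, q2, by rw [hw2, hw2]; exact fun e => hne (Prod.ext h e)⟩
        · exact ⟨bOne, q1, by rw [hw1, hw1]; exact h⟩)
      (fun d => Submodule.span ℂ {wd d}) (Eig ρ upper c)
      (fun d => (Submodule.span_singleton_le_iff_mem _ _).2
        (Eig_mono (fun a ha => ⟨upper_sub a ha, hwu d a ha⟩) (hwm d)))
      (fun d => (Submodule.span_singleton_le_iff_mem _ _).2 (hwm d))
    rw [Finset.sum_congr rfl fun d _ => finrank_span_singleton (hw0 d)] at this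
    simpa [pow_two] using this
  let M := {a : Rt // mid a = true}
  let cm : (M → F) → Rt → F := fun d a => if h : mid a = true then d ⟨a, h⟩ else c a
  have htopm : ¬ mid top = true := fun e => (mid_move top e).2.2.2.2.2.1 rfl
  have hhim : ¬ mid hi = true := fun e => (mid_move hi e).2.2.2.2.1 rfl
  have hsum := finrank_sum_le (ρ := ρ) upper cm (fun d d' hne => by
      obtain ⟨b, hb⟩ := Function.ne_iff.1 hne
      exact ⟨b.1, (mid_move b.1 b.2).2.2.2.2.2.2.1, by simp only [cm, dif_pos b.2]; exact hb⟩)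
    (fun d => Eig ρ upper (cm d)) (Eig ρ (one' top) (0 : Rt → F))
    (fun d => Eig_mono fun a ha => ⟨by rw [one'_iff.1 ha]; exact QQ_basic.2.2.2.2.1, by
      rw [one'_iff.1 ha]; simp only [cm, dif_neg htopm, hct]; rfl⟩) (fun _ => le_rfl)
  refine le_trans ?_ hsum
  refine le_trans ?_ (Finset.card_nsmul_le_sum _ _ _ fun d _ => le_trans htwo (mid_free hc
    (by simp only [cm, dif_neg hhim]) (by simp only [cm, dif_neg htopm])))
  rw [Finset.card_univ, smul_eq_mul, Fintype.card_fun, mid_card, ← pow_add]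

theorem big_mid : ∀ (b : Rt), low b = true → ∀ {c : Rt → F} {v : Fin k → ℂ}, c hi ≠ 0 → c top = 0 →
    (∀ a, mid a = true → c a = 0) → v ≠ 0 → v ∈ Eig ρ QQ c → c b ≠ 0 →
    Fintype.card F ^ 29 ≤ Module.finrank ℂ (Eig ρ (one' top) (0 : Rt → F)) := by
  intro b
  induction h : 227 - b.val using Nat.strong_induction_on generalizing b with
  | _ n ih =>
  intro hb c v hc hct hz hv0 hv hcb
  by_cases hb0 : b = bZero
  · exact big_low hc hct hz hv0 hv (hb0 ▸ hcb)
  obtain ⟨i, hlt, hfh, hft, hinv⟩ := low_up b hb hb0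
  have hlow : low (rf i b) = true := by rw [(hinv b).2.1]; exact hb
  have h1 : b.val < (rf i b).val := hlt
  have h2 := low_lt _ hlow
  refine ih (227 - (rf i b).val) (by omega) (rf i b) rfl hlow
    (c := fun a => et F i (rf i a) * c (rf i a)) (v := ρ (nn F i) v) ?_ ?_ ?_
    (fun e => hv0 (rho_inj ρ e)) (move_nn i (fun a ha => ⟨by rw [(hinv a).1]; exact ha, rfl⟩) hv) ?_
  · rw [hfh]; exact mul_ne_zero (et_ne _ _) hc
  · rw [hft, hct, mul_zero]
  · exact fun a ha => by rw [hz _ (by rw [(hinv a).2.2]; exact ha), mul_zero]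
  · rw [rf_rf]; exact mul_ne_zero (et_ne _ _) hcb

theorem big_eight {c : Rt → F} (hc : c hi ≠ 0) (hct : c top = 0) (hz : ∀ a, mid a = true → c a = 0)
    (hl : ∀ a, low a = true → c a = 0) {v : Fin k → ℂ} (hv0 : v ≠ 0) (hv : v ∈ Eig ρ QQ c)
    (hb : c (sr i8) ≠ 0) :
    Fintype.card F ^ 29 ≤ Module.finrank ℂ (Eig ρ (one' top) (0 : Rt → F)) := by
  obtain ⟨hg, hN, hS, hd⟩ := eight_low
  set g := sm (sr i8) bZero.rev
  have hsame : ∀ a, upper a = true → mv g 1 c a = c a := fun a ha => by
    rw [mv]; split_ifs with hN'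
    · rfl
    · rcases (hd a ha).resolve_left hN' with h | h
      · rw [hz _ h, mul_zero, sub_zero]
      · rw [hl _ h, mul_zero, sub_zero]
  refine big_mid bZero low_facts.1 (c := mv g 1 c) (v := ρ (x g 1) v) ?_ ?_ ?_
    (fun e => hv0 (rho_inj ρ e)) (move g 1 (fun a ha => lev_QQ g a hg ha) hv) ?_
  · rw [hsame hi QQ_basic.2.2.2.2.2.1]; exact hc
  · rw [hsame top QQ_basic.2.2.2.2.1, hct]
  · exact fun a ha => by rw [hsame a (mid_move a ha).2.2.2.2.2.2.1, hz a ha]
  · rw [mv, if_neg hN, hS, hl bZero low_facts.1, zero_sub, mul_one]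
    exact neg_ne_zero.2 (mul_ne_zero (kap_ne hN) hb)

theorem pure_pos (hρ : ρ.IsIrreducible) (hk : 2 ≤ k)
    (hsmall : Module.finrank ℂ (Eig ρ (one' top) (0 : Rt → F)) < Fintype.card F ^ 29) :
    ∃ s : F, s ≠ 0 ∧ 0 < Module.finrank ℂ (Eig ρ QQ (sgl hi s)) := by
  obtain ⟨c₀, v₀, h00, hv₀, hct₀, hch₀⟩ := fixed_pos hρ hk
  obtain ⟨c, v, hv0, hv, hc, hct, hz⟩ := mid_clear hch₀ hct₀ h00 hv₀
  refine ⟨c hi, hc, finrank_pos (Eig_mono (fun a ha => ⟨ha, ?_⟩) hv) hv0⟩
  by_cases h : a = hi
  · rw [h, sgl_self]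
  rw [sgl_ne h]
  have hlow : ∀ b, low b = true → c b = 0 := fun b hb => by
    by_contra hne
    exact absurd (big_mid b hb hc hct hz hv0 hv hne) (not_le.2 hsmall)
  rcases QQ_split a ha with hu | hl | rfl
  · rcases upper_split a hu with rfl | rfl | hm
    · exact hct
    · exact absurd rfl h
    · exact hz a hm
  · exact hlow a hl
  · by_contra hne
    exact absurd (big_eight hc hct hz hlow hv0 hv hne) (not_le.2 hsmall)

theorem pure_torus {s s' : F} (hs : s ≠ 0) (hs' : s' ≠ 0) :
    Module.finrank ℂ (Eig ρ QQ (sgl hi s)) ≤ Module.finrank ℂ (Eig ρ QQ (sgl hi s')) := by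
  refine finrank_le_of_move (hh i7 (Units.mk0 (s / s') (div_ne_zero hs hs'))) fun v hv =>
    move_hh i7 _ (fun a _ => ?_) hv
  by_cases h : a = hi
  · subst h
    rw [sgl_self, sgl_self, QQ_basic.2.2.2.2.2.2.2.2.2.2.1, zpow_one, Units.val_inv_eq_inv_val, Units.val_mk0]
    field_simp
  · rw [sgl_ne h, sgl_ne h, mul_zero]

/-- All pure characters are equivalent. -/
theorem pure_all : ∀ (r : Rt), R0 r = true → ∀ {s : F}, s ≠ 0 →
    Module.finrank ℂ (Eig ρ QQ (sgl r s)) = Module.finrank ℂ (Eig ρ QQ (sgl hi (1 : F))) := by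
  intro r
  induction h : 239 - r.val using Nat.strong_induction_on generalizing r with
  | _ n ih =>
  intro hr s hs
  by_cases hh : r = hi
  · subst hh
    exact le_antisymm (pure_torus hs one_ne_zero) (pure_torus one_ne_zero hs)
  obtain ⟨i, hlt, -, hinv⟩ := R0_up r hr hh
  have hlt' : r.val < (rf i r).val := hlt
  have hR : R0 (rf i r) = true := by rw [(hinv r).2]; exact hr
  have hb := R0_lt _ hR
  have key := fun (s' : F) (hs' : s' ≠ 0) =>
    ih (239 - (rf i r).val) (by omega) (rf i r) rfl hR (s := s') hs'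
  refine le_antisymm ?_ ?_
  · rw [← key (et F i r * s) (mul_ne_zero (et_ne i r) hs)]
    refine finrank_le_of_move (nn F i) fun v hv => move_nn i (fun a ha => ⟨by rw [(hinv a).1]; exact ha, ?_⟩) hv
    by_cases h : a = rf i r
    · subst h; rw [sgl_self, rf_rf, sgl_self]
    · rw [sgl_ne h, sgl_ne (fun e' => h (by rw [← e', rf_rf])), mul_zero]
  · rw [← key (et F i (rf i r) * s) (mul_ne_zero (et_ne i _) hs)]
    refine finrank_le_of_move (nn F i) fun v hv => move_nn i (fun a ha => ⟨by rw [(hinv a).1]; exact ha, ?_⟩) hv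
    by_cases h : a = r
    · subst h
      rw [sgl_self, sgl_self, ← mul_assoc, et_sq, one_mul]
    · rw [sgl_ne h, sgl_ne (fun e' => h (by rw [← rf_rf i a, e', rf_rf])), mul_zero]

end CfsgLib.E8Deg
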