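import Cfsg.Agent.Lib.E8Deg.Hecke
import Cfsg.Agent.Lib.E8Deg.Form

/-! A vector fixed by the torus and the positive unipotent group on which a Hecke operator is not trivial. -/

set_option autoImplicit false
set_option linter.unusedSectionVars false
set_option linter.dupNamespace false
set_option maxRecDepth 100000
set_option maxHeartbeats 1000000
set_option synthInstance.maxSize 4096
set_option synthInstance.maxHeartbeats 400000

namespace CfsgLib.E8Deg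

open Cfsg.Lie CfsgLib.Chev CfsgLib.Chev.Chev

theorem braid_facts : rf i8 (sr i7) = r87 ∧ rf i7 (sr i8) = r87 := by decide +kernel

theorem SP_u : ∀ a, SP a = true → a ≠ sr i7 → a ≠ sr i8 →
    Q3 a = true := by
  intro a h1 h2 h3; simp [Q3, h1, h2, h3]

theorem u_move : ∀ a, Pi' i8 a = true → a ≠ (sr i8).rev ∧ (Nc (sr i8) a ≠ 0 → Pi' i8 (sm (sr i8) a) = true) := by
  decide +kernel

variable {F : Type*} [Field F] [Fintype F] {k : ℕ} (ρ : Representation ℂ (GG F) (Fin k → ℂ))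

/-- The component measuring the fixed part. -/
noncomputable def phi : Module.End ℂ (Fin k → ℂ) :=
  Pj ρ (sr i8) 1 * Pj ρ r87 0 * ρ (nn F i8) * ρ (nn F i7)

variable {ρ}

theorem phi_apply (z : Fin k → ℂ) :
    phi ρ z = Pj ρ (sr i8) 1 (Pj ρ r87 0 (ρ (nn F i8) (ρ (nn F i7) z))) := rfl

theorem hr76 (t : Fˣ) : hr r76 t = hh i7 t * hh i6 t := by
  refine Subtype.ext ?_
  simp only [Subgroup.coe_mul, hh_eq, hr_val]
  rw [← map_mul]
  congr 1
  funext j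
  simp only [Pi.mul_apply, Chev.coChar, ← _root_.zpow_add]
  congr 1
  refine (coef76 j).trans ?_
  simp [CfsgLib.Chev.chevE8.C_p]

theorem Pj_pi {a : Rt} {S : Rt → Bool} {c : Rt → F} (d : F)
    (h : ∀ b, S b = true → b ≠ a.rev ∧ (Nc a b ≠ 0 → S (sm a b) = true ∧ c (sm a b) = 0))
    {v : Fin k → ℂ} (hv : v ∈ Eig ρ S c) {S' : Rt → Bool} {c' : Rt → F}
    (hS : ∀ b, S' b = true → b ≠ a → S b = true ∧ c b = c' b) (ha : c' a = d) :
    Pj ρ a d v ∈ Eig ρ S' c' := by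
  intro b hb u
  by_cases hba : b = a
  · rw [hba, ha]; exact x_Pj a d u v
  · rw [← (hS b hb hba).2]
    exact Pj_mem a d h hv b (hS b hb hba).1 u

variable (h0 : Line ρ (one' top) R0 (lev i8))

include h0 in
theorem line_R0 {s : F} (hs : s ≠ 0) :
    Module.finrank ℂ (Eig ρ QQ (sgl (sr i8) s)) = 1 ∧
    ∀ a, lev i8 a = true → stab QQ (sr i8) a = true →
      ∀ (u : F), ∀ v ∈ Eig ρ QQ (sgl (sr i8) s), ρ (x a u) v = v := by
  have h := h0 (sr i8) three_ok.2.2.2.2.2.1 s hs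
  rw [show uni (one' top) R0 = QQ from rfl] at h
  exact h

include h0 in
theorem line_SP {s : F} (hs : s ≠ 0) {v : Fin k → ℂ} (hv : v ∈ Eig ρ QQ (sgl (sr i8) s)) :
    v ∈ Eig ρ SP (sgl (sr i8) s) := by
  intro a ha u
  cases hc : QQ a with
  | true => exact hv a hc u
  | false =>
    obtain ⟨h1, h2, h3⟩ := y_ok a ha hc
    rw [(line_R0 h0 hs).2 a h1 h2 u v hv, sgl_ne h3, zero_mul, AddChar.map_zero_eq_one, one_smul]

include h0 in
theorem far_fix_line {s : F} (hs : s ≠ 0) {v : Fin k → ℂ} (hv : v ∈ Eig ρ QQ (sgl (sr i8) s)) {n : Fin 8}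
    (hn : Rank.far n = true) (t : Fˣ) : ρ (hh (ixk n) t) v = v := by
  have hf : ∀ b, b = sr (ixk n) ∨ b = (sr (ixk n)).rev → ∀ u, ρ (x b u) v = v := fun b hb u =>
    (line_R0 h0 hs).2 b (far_ok n hn b hb).1 (far_ok n hn b hb).2.1 u v hv
  rw [hh_eq, hr, rho_mul, fixed_nr hf, fixed_nr hf]

theorem phi_low {z : Fin k → ℂ} (hz : z ∈ Eig ρ SP (0 : Rt → F)) :
    phi ρ z ∈ Eig ρ QQ (sgl (sr i8) (1 : F)) := by
  have e1 : ρ (nn F i7) z ∈ Eig ρ (Pi' i7) (0 : Rt → F) := (pi_zero (SP_to_pi hz fun a _ => rfl)).1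
  have e2 : ρ (nn F i8) (ρ (nn F i7) z) ∈ Eig ρ Q2 (0 : Rt → F) :=
    move_nn i8 (fun a ha => ⟨Q2_img a ha, by simp⟩) e1
  have e3 : Pj ρ r87 0 (ρ (nn F i8) (ρ (nn F i7) z)) ∈ Eig ρ (Pi' i8) (0 : Rt → F) :=
    Pj_pi 0 (fun b hb => ⟨(Q2_p57 b hb).1, fun hN => ⟨((Q2_p57 b hb).2 hN).1, rfl⟩⟩) e2
      (fun b hb hne => ⟨Q2_iff.2 ⟨(Pi'_iff.1 hb).1, (Pi'_iff.1 hb).2, hne⟩, rfl⟩) rfl
  exact Pj_pi 1 (fun b hb => ⟨(Pi1_p56 b hb).1, fun hN => ⟨((Pi1_p56 b hb).2 hN).1, rfl⟩⟩) e3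
    (fun b hb hne => ⟨Pi'_iff.2 ⟨QQ_pos b hb, hne⟩, (sgl_ne hne _).symm⟩) (sgl_self _ _)

include h0 in
theorem phi_top {c : F} (hc : c ≠ 0) {v : Fin k → ℂ} (hv : v ∈ Eig ρ SP (sgl (sr i8) c)) :
    Pj ρ (sr i8) 1 (Pj ρ r87 0 (ρ (nn F i8) (ρ (nn F i7) v))) = 0 := by
  classical
  obtain ⟨f1, f2, f3, f4, f5, f6, f7, f8, f9, f10, -⟩ := three_ok
  have e1 : ρ (nn F i7) v ∈ Eig ρ (Pi' i7) (sgl r87 (et F i7 (sr i8) * c)) := by
    have := move_nn_sgl (S' := Pi' i7) i7 (sr i8) c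
      (fun a ha => (pi_ok i7 a (Pi'_iff.1 ha).1 (Pi'_iff.1 ha).2).1) hv
    rwa [f1] at this
  set σ : F := et F i8 r87 * (et F i7 (sr i8) * c) with hσ
  have hσ0 : σ ≠ 0 := mul_ne_zero (et_ne _ _) (mul_ne_zero (et_ne _ _) hc)
  have e2 : ρ (nn F i8) (ρ (nn F i7) v) ∈ Eig ρ Q2 (sgl (sr i7) σ) := by
    have := move_nn_sgl (S' := Q2) i8 r87 (et F i7 (sr i8) * c) Q2_img e1
    rwa [f3] at this
  have e3 : Pj ρ r87 0 (ρ (nn F i8) (ρ (nn F i7) v)) ∈ Eig ρ (Pi' i8) (sgl (sr i7) σ) :=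
    Pj_pi 0 (fun b hb => ⟨(Q2_p57 b hb).1, fun hN => ⟨((Q2_p57 b hb).2 hN).1, sgl_ne ((Q2_p57 b hb).2 hN).2 _⟩⟩) e2
      (fun b hb hne => ⟨Q2_iff.2 ⟨(Pi'_iff.1 hb).1, (Pi'_iff.1 hb).2, hne⟩, rfl⟩) (sgl_ne (Ne.symm f8) _)
  set cf : Rt → F := fun a => if a = sr i8 then 1 else sgl (sr i7) σ a with hcf
  have e4 : Pj ρ (sr i8) 1 (Pj ρ r87 0 (ρ (nn F i8) (ρ (nn F i7) v))) ∈ Eig ρ SP cf :=
    Pj_pi 1 (fun b hb => ⟨(Pi1_p56 b hb).1, fun hN => ⟨((Pi1_p56 b hb).2 hN).1, sgl_ne ((Pi1_p56 b hb).2 hN).2 _⟩⟩)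
      e3 (fun b hb hne => ⟨Pi'_iff.2 ⟨hb, hne⟩, (if_neg hne).symm⟩) (if_pos rfl)
  have e5 : Pj ρ (sr i8) 1 (Pj ρ r87 0 (ρ (nn F i8) (ρ (nn F i7) v))) ∈ Eig ρ QQ (sgl (sr i8) (1 : F)) := by
    refine Eig_mono (fun a ha => ⟨QQ_pos a ha, ?_⟩) e4
    by_cases h : a = sr i8
    · rw [hcf, h, sgl_self]; exact if_pos rfl
    · simp only [hcf, if_neg h, sgl_ne h]
      exact sgl_ne (fun e => by rw [e, f7] at ha; exact absurd ha (by decide)) _
  obtain ⟨u, hu⟩ := ψ_ne hσ0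
  refine Eig_eq_zero e4 (sr_pos i7) ((line_R0 h0 one_ne_zero).2 (sr i7) ?_ ?_ u _ e5) ?_
  · exact three_ok.2.2.2.2.2.2.2.2.2.2.2.2.2.2.2.2.2.1
  · exact three_ok.2.2.2.2.2.2.2.2.2.2.2.2.2.2.2.2.2.2.1
  · simp only [hcf, if_neg f10, sgl_self]; exact hu

theorem triple (a b : Ix) (r : Rt) (h : rf a (sr b) = r) (v : Fin k → ℂ) :
    ∃ e : Fˣ, ρ (nn F a) (ρ (nn F b) (ρ (nn F a) v)) = ρ (nr r 1) (ρ (hr r e⁻¹) (ρ (hh a (-1)) v)) := by
  refine ⟨CfsgLib.Chev.chevE8.etaU F a (sr b) * 1, ?_⟩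
  rw [← rho_mul (ρ := ρ) (nn F a) (nn F b), nn_eq b, nn_nr, h, rho_mul, ← rho_mul (ρ := ρ) (nn F a) (nn F a),
    nn_sq, nr_eq]
  generalize CfsgLib.Chev.chevE8.etaU F a (sr b) * 1 = e
  rw [show hr r e * nr r 1 = nr r 1 * hr r e⁻¹ by rw [nr_hr_self, inv_inv], rho_mul]

/-- A twist of the line. -/
theorem braid_line {s : F} (hs : s ≠ 0) {y : Fin k → ℂ} (hy0 : y ≠ 0) (hy : y ∈ Eig ρ SP (sgl (sr i8) s)) :
    ∃ (s' : F) (y' : Fin k → ℂ), s' ≠ 0 ∧ y' ≠ 0 ∧ y' ∈ Eig ρ SP (sgl (sr i8) s') ∧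
      ρ (nn F i8) (ρ (nn F i7) (ρ (nn F i8) y)) = ρ (nn F i7) (ρ (nn F i8) (ρ (nn F i7) y')) := by
  obtain ⟨a, ha⟩ := triple (ρ := ρ) i8 i7 r87 braid_facts.1 y
  have hmove : ∀ (r : Rt) (t : Fˣ) (y : Fin k → ℂ) (s : F), s ≠ 0 → y ≠ 0 → y ∈ Eig ρ SP (sgl (sr i8) s) →
      ∃ s' : F, s' ≠ 0 ∧ ρ (hr r t) y ≠ 0 ∧ ρ (hr r t) y ∈ Eig ρ SP (sgl (sr i8) s') :=
    fun r t y s hs h0 hm => ⟨_, mul_ne_zero (Units.ne_zero _) hs, fun e => h0 (rho_inj ρ e),
      move_hr r (sr i8) s t hm⟩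
  obtain ⟨s1, hs1, n1, m1⟩ := hmove (sr i8) (-1) y s hs hy0 hy
  obtain ⟨s2, hs2, n2, m2⟩ := hmove r87 a⁻¹ _ _ hs1 n1 m1
  have hb0 := triple (ρ := ρ) i7 i8 r87 braid_facts.2
  let b : Fˣ := CfsgLib.Chev.chevE8.etaU F i7 (sr i8) * 1
  obtain ⟨s3, hs3, n3, m3⟩ := hmove r87 b _ _ hs2 n2 m2
  obtain ⟨s4, hs4, n4, m4⟩ := hmove (sr i7) (-1) _ _ hs3 n3 m3
  refine ⟨s4, _, hs4, n4, m4, ?_⟩
  rw [ha, ← rho_mul (ρ := ρ) (nn F i7) (nn F i8), nn_eq i8, nn_nr, braid_facts.2, rho_mul,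
    ← rho_mul (ρ := ρ) (nn F i7) (nn F i7), nn_sq, nr_eq r87 (CfsgLib.Chev.chevE8.etaU F i7 (sr i8) * 1)]
  show _ = ρ (hr r87 b * nr r87 1) _
  rw [show hr r87 b * nr r87 1 = nr r87 1 * hr r87 b⁻¹ by rw [nr_hr_self, inv_inv], rho_mul,
    hh_eq i7, hh_eq i8, ← rho_mul (ρ := ρ) (hr (sr i7) (-1)) (hr (sr i7) (-1)), ← hr_mul, neg_mul_neg, one_mul, hr_one, map_one,
    Module.End.one_apply, ← rho_mul (ρ := ρ) (hr r87 b⁻¹) (hr r87 b), ← hr_mul, inv_mul_cancel, hr_one, map_one,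
    Module.End.one_apply]

include h0 in
theorem phi_ne {s : F} (hs : s ≠ 0) {y : Fin k → ℂ} (hy0 : y ≠ 0) (hy : y ∈ Eig ρ SP (sgl (sr i8) s)) :
    phi ρ (Pj ρ (sr i8) 0 (ρ (nn F i8) y)) ≠ 0 := by
  classical
  obtain ⟨f1, f2, f3, f4, f5, f6, f7, f8, f9, f10, -⟩ := three_ok
  have hsplit : phi ρ (ρ (nn F i8) y) = phi ρ (Pj ρ (sr i8) 0 (ρ (nn F i8) y)) := by
    conv_lhs => rw [← sum_Pj (ρ := ρ) (sr i8) (ρ (nn F i8) y), map_sum]
    refine Finset.sum_eq_single (0 : F) (fun c _ hc => ?_) (by simp)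
    rw [phi_apply]
    refine phi_top h0 hc ?_
    have hn := (pi_zero (i := i8) (SP_to_pi hy fun a ha => sgl_ne ha s)).1
    exact Pj_pi c (fun b hb => ⟨(Pi1_p56 b hb).1, fun hN => ⟨((Pi1_p56 b hb).2 hN).1, rfl⟩⟩) hn
      (fun b hb hne => ⟨Pi'_iff.2 ⟨hb, hne⟩, (sgl_ne hne c).symm⟩) (sgl_self _ _)
  rw [← hsplit, phi_apply]
  obtain ⟨s', y', hs', hy0', hy', hbr⟩ := braid_line hs hy0 hy
  rw [hbr]
  set v := ρ (nn F i7) y' with hv
  set σ : F := et F i7 (sr i8) * s' with hσ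
  have hσ0 : σ ≠ 0 := mul_ne_zero (et_ne _ _) hs'
  have hvm : v ∈ Eig ρ (Pi' i7) (sgl r87 σ) := by
    have := move_nn_sgl (S' := Pi' i7) i7 (sr i8) s'
      (fun a ha => (pi_ok i7 a (Pi'_iff.1 ha).1 (Pi'_iff.1 ha).2).1) hy'
    rwa [f1] at this
  -- moving the projections inside
  have p1 : ∀ z, Pj ρ r87 0 (ρ (nn F i7) z) = ρ (nn F i7) (Pj ρ (sr i8) 0 z) := fun z => by
    rw [Pj_comm (ρ := ρ) (nn F i7) (et F i7 (sr i8)) (et_ne _ _) (fun u => nn_x i7 (sr i8) u), f1, zero_div]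
  have p2 : ∀ z, Pj ρ (sr i8) 1 (ρ (nn F i7) z) = ρ (nn F i7) (Pj ρ r87 (et F i7 r87) z) := fun z => by
    rw [Pj_comm (ρ := ρ) (nn F i7) (et F i7 r87) (et_ne _ _) (fun u => nn_x i7 r87 u), f2, div_self (et_ne _ _)]
  have p3 : ∀ (c : F) z, Pj ρ r87 c (ρ (nn F i8) z) = ρ (nn F i8) (Pj ρ (sr i7) (c * et F i8 (sr i7)) z) :=
    fun c z => by
      rw [Pj_comm (ρ := ρ) (nn F i8) (et F i8 (sr i7)) (et_ne _ _) (fun u => nn_x i8 (sr i7) u), f4,
        mul_div_assoc, div_self (et_ne _ _), mul_one]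
  rw [p1, p2]
  refine fun e => ?_
  have e' := rho_inj ρ e
  rw [Pj_swap (show sr i8 ≠ r87.rev by decide +kernel) (show Nc r87 (sr i8) = 0 by decide +kernel), p3] at e'
  set b : F := et F i7 r87 * et F i8 (sr i7) with hb
  set cc : F → Rt → F := fun t a => if a = sr i7 then t else sgl r87 σ a with hcc
  have hcomp : ∀ t, Pj ρ (sr i7) t v ∈ Eig ρ (Pi' i8) (cc t) := fun t => by
    refine Pj_pi t (S := Q3) (c := sgl r87 σ) (fun z hz => ⟨(Q3_p42 z hz).1, fun hN =>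
      ⟨((Q3_p42 z hz).2 hN).1, sgl_ne ((Q3_p42 z hz).2 hN).2 _⟩⟩)
      (Eig_mono (fun z hz => ⟨?_, rfl⟩) hvm) (fun z hz hne => ⟨?_, (if_neg hne).symm⟩) (if_pos rfl)
    · simp only [Q3, Bool.and_eq_true, Bool.not_eq_true', decide_eq_false_iff_not] at hz
      exact Pi'_iff.2 ⟨hz.1.1, hz.1.2⟩
    · exact SP_u z (Pi'_iff.1 hz).1 hne (Pi'_iff.1 hz).2
  set κ : F := (kap (sr i8) (sr i7) : F) with hκ
  have hNe : Nc (sr i8) (sr i7) ≠ 0 := three_ok.2.2.2.2.2.2.2.2.2.2.2.2.2.2.2.2.2.2.2.2.2.1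
  have hSe : sm (sr i8) (sr i7) = r87 := three_ok.2.2.2.2.2.2.2.2.2.2.2.2.2.2.2.2.2.2.2.2.2.2.1
  have hκ0 : κ ≠ 0 := kap_ne hNe
  have h42 : Pi' i8 (sr i7) = true := Pi'_iff.2 ⟨sr_pos i7, f10⟩
  have hmove : ∀ (u t : F), ∀ w ∈ Eig ρ (Pi' i8) (cc t),
      ∀ z, ρ (x (sr i7) z) (ρ (x (sr i8) u) w) = ψ ((t - κ * u * σ) * z) • ρ (x (sr i8) u) w := by
    intro u t w hw z
    rw [move (sr i8) u u_move hw (sr i7) h42 z]
    congr 3
  have hvfix : ∀ u, ρ (x (sr i8) u) v = v := fun u => by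
    rw [hvm (sr i8) (Pi'_iff.2 ⟨sr_pos i8, Ne.symm f10⟩) u, sgl_ne f9, zero_mul, AddChar.map_zero_eq_one, one_smul]
  -- all components are non-zero
  have hbne : Pj ρ (sr i7) b v ≠ 0 := by
    intro hb0
    refine hy0' (rho_inj ρ (g := nn F i7) (show v = 0 from ?_))
    rw [← sum_Pj (ρ := ρ) (sr i7) v]
    refine Finset.sum_eq_zero fun t _ => ?_
    set u : F := (b - t) / (κ * σ) with hu
    conv_lhs => rw [← hvfix u, ← sum_Pj (ρ := ρ) (sr i7) v]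
    rw [map_sum, map_sum]
    refine Finset.sum_eq_zero fun t' _ => ?_
    rw [Pj_eigen t (t' - κ * u * σ) (hmove u t' _ (hcomp t'))]
    split_ifs with ht
    · rw [show t' = b by rw [hu] at ht; field_simp at ht; linear_combination -ht, hb0, map_zero]
    · rfl
  set M := ρ (nn F i8) (Pj ρ (sr i7) b v) with hM
  have hM0 : M ≠ 0 := fun h => hbne (rho_inj ρ h)
  set σ' : F := et F i8 r87 * σ with hσ'
  set β' : F := et F i8 (sr i7) * b with hβ'
  have hMm : M ∈ Eig ρ (Pi' i8)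
      (fun a => if a = r87 then β' else sgl (sr i7) σ' a) := by
    refine move_nn i8 (fun a ha => ⟨?_, ?_⟩) (hcomp b)
    · obtain ⟨h1, h2⟩ := Pi'_iff.1 ha
      exact Pi'_iff.2 ⟨(pi_ok i8 a h1 h2).1, (pi_ok i8 a h1 h2).2.1⟩
    · simp only [hcc]
      by_cases h7 : a = r87
      · rw [if_pos h7, h7, f3, if_pos rfl]
      · rw [if_neg h7, if_neg (fun e => h7 (by rw [← rf_rf i8 a, e, f4]))]
        by_cases h3 : a = sr i7
        · rw [h3, sgl_self, f4, sgl_self]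
        · rw [sgl_ne h3, sgl_ne (fun e => h3 (by rw [← rf_rf i8 a, e, f3])), mul_zero]
  have hb' : β' ≠ 0 := mul_ne_zero (et_ne _ _) (mul_ne_zero (et_ne _ _) (et_ne _ _))
  refine hM0 ?_
  have hzero : ∑ u : F, ρ (x (sr i8) u) M = 0 := by
    have hproj : Pj ρ (sr i8) 0 M = (Fintype.card F : ℂ)⁻¹ • ∑ u : F, ρ (x (sr i8) u) M := by
      simp [Pj, CfsgLib.RadicalBound.proj, chr_apply]
    rw [e'] at hproj
    exact (smul_eq_zero.1 hproj.symm).resolve_left (inv_ne_zero (Nat.cast_ne_zero.2 Fintype.card_ne_zero))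
  have hMmove : ∀ (u z : F), ρ (x (sr i7) z) (ρ (x (sr i8) u) M) =
      ψ ((σ' - κ * u * β') * z) • ρ (x (sr i8) u) M := by
    intro u z
    rw [move (sr i8) u u_move hMm (sr i7) h42 z]
    congr 3
  have h := congrArg (Pj ρ (sr i7) σ') hzero
  rw [map_sum, map_zero, Finset.sum_eq_single (0 : F) (fun u _ hu => ?_) (by simp)] at h
  · rw [Pj_eigen σ' (σ' - κ * 0 * β') (hMmove 0), if_pos (by ring), x_zero, map_one, Module.End.one_apply] at h
    exact h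
  · rw [Pj_eigen σ' (σ' - κ * u * β') (hMmove u), if_neg]
    intro hh'
    exact mul_ne_zero (mul_ne_zero hκ0 hu) hb' (by linear_combination hh')

include h0 in
/-- The vector from which a Hecke operator is tested. -/
theorem exists_base : ∃ x1, x1 ∈ Eig ρ SP (0 : Rt → F) ∧ x1 ≠ 0 ∧
    (∀ j : Ix, j ≠ i8 → ∀ t, ρ (hh j t) x1 = x1) ∧
    (x1 ∈ TF ρ → ∃ w : X0 ρ, Aop ρ 0 w ≠ 0 ∧ ∀ n, Rank.far n = true → Aop ρ n w = 0) := by
  classical
  obtain ⟨f1, f2, f3, f4, f5, f6, f7, f8, f9, f10, -, -, fp4, f14, f34, fp3, -⟩ := three_ok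
  obtain ⟨⟨y, hyR⟩, hy0, -⟩ := finrank_eq_one_iff'.1 (line_R0 h0 (one_ne_zero (α := F))).1
  have hy0' : y ≠ 0 := fun e => hy0 (Subtype.ext e)
  have hy : y ∈ Eig ρ SP (sgl (sr i8) (1 : F)) := line_SP h0 one_ne_zero hyR
  set x0 := Pj ρ (sr i8) 0 (ρ (nn F i8) y) with hx0
  have hny := (pi_zero (i := i8) (SP_to_pi hy fun a ha => sgl_ne ha (1 : F))).1
  have hx0m : x0 ∈ Eig ρ SP (0 : Rt → F) :=
    Pj_pi 0 (fun b hb => ⟨(Pi1_p56 b hb).1, fun hN => ⟨((Pi1_p56 b hb).2 hN).1, rfl⟩⟩) hny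
      (fun b hb hne => ⟨Pi'_iff.2 ⟨hb, hne⟩, rfl⟩) rfl
  set x1 := ∑ t : Fˣ, ρ (hh i7 t) x0 with hx1
  have hfar : ∀ n, Rank.far n = true → ∀ b, (b = sr (ixk n) ∨ b = (sr (ixk n)).rev) →
      ∀ u, ρ (x b u) x0 = x0 := by
    intro n hn b hb u
    obtain ⟨g1, g2, g3, g4, g5, g6⟩ := far_ok n hn b hb
    rw [hx0, Pj_comm (ρ := ρ) (x b u) 1 one_ne_zero (fun w => by rw [one_mul, conj_zero g5 g4 u w]), zero_div,
      ← rho_mul (ρ := ρ) (x b u), x_nn, g3, rho_mul, (line_R0 h0 one_ne_zero).2 b g1 g2 _ y hyR]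
  have hfarh : ∀ n, Rank.far n = true → ∀ t, ρ (hh (ixk n) t) x0 = x0 := fun n hn t => by
    rw [hh_eq, hr, rho_mul, fixed_nr (hfar n hn), fixed_nr (hfar n hn)]
  have hcomm : ∀ r t', ρ (hr r t') x1 = ∑ t : Fˣ, ρ (hh i7 t) (ρ (hr r t') x0) := fun r t' => by
    rw [hx1, map_sum]
    exact Finset.sum_congr rfl fun t _ => by rw [← rho_mul, hh_eq, hr_comm, rho_mul]
  have hothers : ∀ j : Ix, j ≠ i8 → ∀ t', ρ (hh j t') x1 = x1 := by
    intro j hj t'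
    by_cases h3 : j = i7
    · rw [h3, hx1, map_sum]
      refine Fintype.sum_equiv (Equiv.mulLeft t') _ _ fun t => ?_
      rw [Equiv.coe_mulLeft, hh_eq, hh_eq, hh_eq, hr_mul, rho_mul]
    · obtain ⟨n, rfl⟩ := ixk_surj j
      have hn : Rank.far n = true := by
        revert hj h3; revert n; decide +kernel
      rw [hh_eq, hcomm, ← hh_eq, hfarh n hn t']
  have h1e : x1 ∈ Eig ρ SP (0 : Rt → F) := Submodule.sum_mem _ fun t _ => move_hr_zero _ t hx0m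
  have hphi : phi ρ x1 = (Fintype.card Fˣ : ℂ) • phi ρ x0 := by
    rw [hx1, map_sum, Nat.cast_smul_eq_nsmul ℂ, ← Finset.card_univ, ← Finset.sum_const]
    refine Finset.sum_congr rfl fun t _ => ?_
    have e : ρ (hh i7 t) x0 = ρ (hr r76 t) x0 := by
      rw [hr76, rho_mul, show ρ (hh i6 t) x0 = x0 from hfarh 2 (by decide) t]
    have hlow := phi_low (ρ := ρ) hx0m
    rw [e]
    calc phi ρ (ρ (hr r76 t) x0) = ρ (hr (sr i6) t) (phi ρ x0) := by
          rw [phi_apply, phi_apply, Pj_comm (ρ := ρ) (hr (sr i6) t) 1 one_ne_zero (fun u => by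
            rw [hr_x, fp4, zpow_zero, Units.val_one]),
            Pj_comm (ρ := ρ) (hr (sr i6) t) ((t ^ pair (sr i6) r87 : Fˣ) : F) (Units.ne_zero _)
              (fun u => hr_x (sr i6) r87 t u), zero_div, div_one,
            ← rho_mul (ρ := ρ) (hr (sr i6) t), hr_nn, f14, rho_mul, ← rho_mul (ρ := ρ) (hr (sr i6) t), hr_nn,
            f34, rho_mul]
      _ = phi ρ x0 := far_fix_line h0 one_ne_zero hlow (n := 2) (by decide) t
  have hx1ne : x1 ≠ 0 := fun e => by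
    rw [e, map_zero] at hphi
    rcases smul_eq_zero.1 hphi.symm with h | h
    · exact Nat.cast_ne_zero.2 Fintype.card_ne_zero h
    · exact phi_ne h0 one_ne_zero hy0' hy h
  refine ⟨x1, h1e, hx1ne, hothers, fun h1TF => ?_⟩
  have h1m : x1 ∈ X0 ρ := Submodule.mem_inf.2 ⟨h1e, h1TF⟩
  refine ⟨⟨x1, h1m⟩, fun hA => hx1ne ?_, fun n hn => Subtype.ext ?_⟩
  · have hT : Hop ρ i8 x1 = (Fintype.card F : ℂ) • x1 := by
      have := congrArg Subtype.val hA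
      rw [Aop_val, Submodule.coe_zero, sub_eq_zero] at this
      exact this
    have hproj : ∀ v, Pj ρ (sr i8) (0 : F) v = (Fintype.card F : ℂ)⁻¹ • avg ρ (sr i8) v := fun v => by
      simp [Pj, CfsgLib.RadicalBound.proj, chr_apply, avg_apply]
    have hq : (Fintype.card F : ℂ) ≠ 0 := Nat.cast_ne_zero.2 Fintype.card_ne_zero
    have hn1 : ρ (nn F i8) x1 = x1 := by
      refine fixed_of_Pj (a := sr i8) ?_ ?_
      · exact (Pj_eigen (0 : F) 0 (fun u => (Submodule.mem_inf.1 h1m).1 (sr i8) (sr_pos i8) u)).trans (if_pos rfl)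
      · rw [hproj, ← Hop_apply, hT, smul_smul, inv_mul_cancel₀ hq, one_smul]
    set η := ∑ t : Fˣ, ρ (hr r87 t) y with hη
    have hx1η : x1 = Pj ρ (sr i8) 0 (ρ (nn F i8) η) := by
      rw [hx1, hη, map_sum, map_sum]
      refine Finset.sum_congr rfl fun t _ => ?_
      rw [hx0, hh_eq, Pj_comm (ρ := ρ) (hr (sr i7) t) ((t ^ pair (sr i7) (sr i8) : Fˣ) : F) (Units.ne_zero _)
        (fun u => hr_x (sr i7) (sr i8) t u), zero_div, ← rho_mul (ρ := ρ) (hr (sr i7) t), hr_nn, f4, rho_mul]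
    have hη0 : Pj ρ (sr i8) (0 : F) η = 0 := by
      rw [hη, map_sum]
      refine Finset.sum_eq_zero fun t _ => ?_
      have hm := move_hr r87 (sr i8) (1 : F) t hy (sr i8) (sr_pos i8)
      rw [sgl_self] at hm
      rw [Pj_eigen (0 : F) _ hm, if_neg (Ne.symm (mul_ne_zero (Units.ne_zero _) one_ne_zero))]
    have hP1 : Pj ρ (sr i8) (0 : F) x1 = x1 :=
      (Pj_eigen (0 : F) 0 (fun u => (Submodule.mem_inf.1 h1m).1 (sr i8) (sr_pos i8) u)).trans (if_pos rfl)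
    refine eq_zero_of_form ρ ?_
    calc form ρ x1 x1 = form ρ x1 (Pj ρ (sr i8) 0 (ρ (nn F i8) η)) := by rw [← hx1η]
      _ = form ρ (Pj ρ (sr i8) 0 x1) (ρ (nn F i8) η) := (form_Pj_zero _ _ _).symm
      _ = form ρ (ρ (nn F i8) x1) (ρ (nn F i8) η) := by rw [hP1, hn1]
      _ = form ρ (Pj ρ (sr i8) 0 x1) η := by rw [form_inv, hP1]
      _ = form ρ x1 (Pj ρ (sr i8) 0 η) := form_Pj_zero _ _ _
      _ = 0 := by rw [hη0]; simp [form]
  · have hfix : ∀ b, (b = sr (ixk n) ∨ b = (sr (ixk n)).rev) → ∀ u, ρ (x b u) x1 = x1 := fun b hb u => by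
      rw [hx1, map_sum]
      exact Finset.sum_congr rfl fun t _ => by rw [← rho_mul, hh_eq, x_hr, rho_mul, hfar n hn b hb]
    rw [Aop_val, Hop_apply]
    show avg ρ _ (ρ (nr (sr (ixk n)) 1) x1) - _ = _
    rw [fixed_nr hfix, avg_fixed (hfix _ (Or.inl rfl)), sub_self]
    rfl


/-- The values of a character of the multiplicative group. -/
noncomputable def mval (μ : AddChar (Additive Fˣ) ℂ) (t : Fˣ) : ℂ := μ (Additive.ofMul t)

theorem mval_mul (μ : AddChar (Additive Fˣ) ℂ) (a b : Fˣ) : mval μ (a * b) = mval μ a * mval μ b := by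
  rw [mval, ofMul_mul, AddChar.map_add_eq_mul]; rfl

theorem mval_one (μ : AddChar (Additive Fˣ) ℂ) : mval μ (1 : Fˣ) = 1 := by
  rw [mval, ofMul_one, AddChar.map_zero_eq_one]

/-- A vector on which the torus acts by the weight `e` of a character. -/
def Wt (ρ : Representation ℂ (GG F) (Fin k → ℂ)) (μ : AddChar (Additive Fˣ) ℂ) (e : Ix → ℤ)
    (z : Fin k → ℂ) : Prop :=
  z ∈ Eig ρ SP (0 : Rt → F) ∧ ∀ i t, ρ (hh i t) z = mval μ (t ^ e i) • z

/-- The weights met along the chain. -/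
def wt (n : Fin 8) (i : Ix) : ℤ :=
  ([[0, 0, 0, 0, 0, 0, 0, 1], [0, 0, 0, 0, 0, 0, 1, -1], [0, 0, 0, 0, 0, 1, -1, 0], [0, 0, 0, 0, 1, -1, 0, 0],
    [0, 0, 0, 1, -1, 0, 0, 0], [0, 1, 1, -1, 0, 0, 0, 0], [1, 1, -1, 0, 0, 0, 0, 0],
    [-1, 1, 0, 0, 0, 0, 0, 0]] : List (List ℤ)).getD n.val [] |>.getD i.val 0

theorem wt_ok : ∀ n : Fin 7, wt n.castSucc (ixk n.castSucc) = 1 ∧ ∀ i : Ix,
    (∑ l : Ix, CfsgLib.Chev.chevE8.C (rf (ixk n.castSucc) (sr i)) l * wt n.castSucc l) = wt n.succ i := by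
  decide +kernel

theorem wt_sep : ∀ a b : Fin 8, a ≠ b →
    ∃ i : Ix, (wt a i = 0 ∧ (wt b i = 1 ∨ wt b i = -1)) ∨ (wt b i = 0 ∧ (wt a i = 1 ∨ wt a i = -1)) := by
  decide +kernel

theorem wt_zero : ∀ i : Ix, wt 0 i = if i = i8 then 1 else 0 := by decide +kernel

theorem mval_zpow_sum (μ : AddChar (Additive Fˣ) ℂ) (t : Fˣ) {ι : Type*} [DecidableEq ι] (s : Finset ι)
    (f : ι → ℤ) : ∏ l ∈ s, mval μ (t ^ f l) = mval μ (t ^ ∑ l ∈ s, f l) := by
  induction s using Finset.induction_on with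
  | empty => simp [mval_one]
  | insert a s ha ih => rw [Finset.prod_insert ha, Finset.sum_insert ha, _root_.zpow_add, mval_mul, ih]

theorem wt_hr {μ : AddChar (Additive Fˣ) ℂ} {e : Ix → ℤ} {z : Fin k → ℂ} (hz : Wt ρ μ e z) (r : Rt) (t : Fˣ) :
    ρ (hr r t) z = mval μ (t ^ ∑ l : Ix, CfsgLib.Chev.chevE8.C r l * e l) • z := by
  classical
  have key : ∀ l : List Ix, ρ (l.map fun j => hh j (t ^ CfsgLib.Chev.chevE8.C r j)).prod z =
      (l.map fun j => mval μ (t ^ (CfsgLib.Chev.chevE8.C r j * e j))).prod • z := by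
    intro l
    induction l with
    | nil => simp
    | cons a l ih =>
      rw [List.map_cons, List.prod_cons, rho_mul, ih, map_smul, hz.2, smul_smul, List.map_cons, List.prod_cons,
        ← zpow_mul, mul_comm]
  rw [hr_prod, List.ofFn_eq_map, key, ← List.ofFn_eq_map, List.prod_ofFn, mval_zpow_sum]

/-- The Hecke operator of a simple root moves a weight vector to the reflected weight. -/
theorem wt_Hop {μ : AddChar (Additive Fˣ) ℂ} (hμ : ∃ t : Fˣ, mval μ t ≠ 1) {e e' : Ix → ℤ} {z : Fin k → ℂ}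
    (hz : Wt ρ μ e z) (hz0 : z ≠ 0) {j : Ix} (hj : e j = 1)
    (he : ∀ i : Ix, (∑ l : Ix, CfsgLib.Chev.chevE8.C (rf j (sr i)) l * e l) = e' i) :
    Wt ρ μ e' (Hop ρ j z) ∧ Hop ρ j z ≠ 0 := by
  classical
  refine ⟨⟨Hop_pos j hz.1, fun i t => ?_⟩, fun hzero => hz0 ?_⟩
  · rw [Hop_apply, hh_eq, avg_hr, ← rho_mul, hr_nn, rho_mul, wt_hr hz, he, map_smul, map_smul]
  · have hh1 : ∀ t, ρ (hh j t) z = mval μ t • z := fun t => by rw [hz.2, hj, zpow_one]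
    have hfix : ∀ u, ρ (x (sr j) u) z = z := fun u => Eig_zero_fix hz.1 (sr_pos j) u
    have hnn2 : ρ (nn F j) (ρ (nn F j) z) = mval μ (-1) • z := by rw [← rho_mul, nn_sq, hh1]
    have hterm : ∀ w : Fˣ, avg ρ (sr j) (ρ (nn F j) (ρ (x (sr j) (w : F)) (ρ (nn F j) z))) =
        (mval μ (-1) * mval μ w) • avg ρ (sr j) (ρ (nn F j) z) := by
      intro w
      have e : x (sr j).rev (-(w : F)) = x (sr j) (-(w : F)⁻¹) * nr (sr j) w⁻¹ * x (sr j) (-(w : F)⁻¹) := by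
        simp only [nr, Units.val_inv_eq_inv_val, inv_inv, ← mul_assoc, x_neg_mul, one_mul]
        rw [mul_assoc, x_mul_neg, mul_one]
      rw [← rho_mul, nn_x_self, rho_mul, hnn2, e, map_smul, rho_mul, rho_mul, hfix, map_smul, avg_absorb,
        nr_eq, ← inv_inv w⁻¹, ← nr_hr_self, rho_mul, inv_inv, ← hh_eq, hh1, map_smul, map_smul, smul_smul, ← nn_eq]
    have hsum : ∑ w : Fˣ, mval μ w = 0 := by
      obtain ⟨t, ht⟩ := hμ
      have e : mval μ t * ∑ w : Fˣ, mval μ w = ∑ w : Fˣ, mval μ w := by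
        rw [Finset.mul_sum]
        exact Fintype.sum_equiv (Equiv.mulLeft t) _ _ fun w => (mval_mul μ t w).symm
      by_contra h
      exact ht (mul_right_cancel₀ h (e.trans (one_mul _).symm))
    have hTT : Hop ρ j (Hop ρ j z) = ((Fintype.card F : ℂ) * mval μ (-1)) • z := by
      rw [Hop_apply, Hop_apply, avg_apply (sr j) (ρ (nn F j) z), map_sum, map_sum,
        ← Finset.add_sum_erase _ _ (Finset.mem_univ (0 : F)), x_zero, map_one, Module.End.one_apply, hnn2,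
        map_smul, avg_fixed hfix, smul_smul, mul_comm (mval μ (-1))]
      refine add_eq_left.2 ?_
      rw [show ∑ w ∈ Finset.univ.erase (0 : F), avg ρ (sr j) (ρ (nn F j) (ρ (x (sr j) w) (ρ (nn F j) z))) =
        ∑ w : Fˣ, avg ρ (sr j) (ρ (nn F j) (ρ (x (sr j) (w : F)) (ρ (nn F j) z))) from
        Finset.sum_bij' (fun w hw => Units.mk0 w (Finset.mem_erase.1 hw).1) (fun w _ => (w : F))
          (fun _ _ => Finset.mem_univ _) (fun w _ => Finset.mem_erase.2 ⟨w.ne_zero, Finset.mem_univ _⟩)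
          (fun _ _ => rfl) (fun _ _ => Units.ext rfl) (fun _ _ => rfl),
        Finset.sum_congr rfl fun w _ => hterm w, ← Finset.sum_smul, ← Finset.mul_sum, hsum, mul_zero, zero_smul]
    rw [hzero, map_zero] at hTT
    refine (smul_eq_zero.1 hTT.symm).resolve_left (mul_ne_zero (Nat.cast_ne_zero.2 Fintype.card_ne_zero) ?_)
    intro h
    have := mval_mul μ (-1 : Fˣ) (-1)
    rw [h, mul_zero, neg_mul_neg, one_mul, mval_one] at this
    exact one_ne_zero this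

/-- Simultaneous eigenvectors with distinct eigenvalue systems are independent. -/
theorem indep_eigen {M ι I : Type*} [AddCommGroup M] [Module ℂ M] (g : I → Module.End ℂ M) (v : ι → M)
    (χ : ι → I → ℂ) (hv : ∀ n, v n ≠ 0) (he : ∀ n a, g a (v n) = χ n a • v n) (hχ : Function.Injective χ) :
    LinearIndependent ℂ v := by
  classical
  have key : ∀ (m : ℕ) (s : Finset ι), s.card ≤ m → ∀ c : ι → ℂ,
      ∑ l ∈ s, c l • v l = 0 → ∀ i ∈ s, c i = 0 := by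
    intro m
    induction m with
    | zero => intro s hs c _ i hi; exact absurd (Finset.card_pos.2 ⟨i, hi⟩) (by omega)
    | succ m ih =>
      intro s hs c h0 i hi
      by_cases hone : ∀ j ∈ s, j = i
      · rw [Finset.sum_eq_single i (fun j hj hne => absurd (hone j hj) hne) (fun h => absurd hi h)] at h0
        exact (smul_eq_zero.1 h0).resolve_right (hv i)
      push Not at hone
      obtain ⟨j, hj, hji⟩ := hone
      obtain ⟨a, ha⟩ := Function.ne_iff.1 (hχ.ne (Ne.symm hji))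
      have hw : ∑ l ∈ s.erase j, ((χ l a - χ j a) * c l) • v l = 0 := by
        have e1 : g a (∑ l ∈ s, c l • v l) - χ j a • ∑ l ∈ s, c l • v l = 0 := by
          rw [h0, map_zero, smul_zero, sub_zero]
        rw [map_sum, Finset.smul_sum, ← Finset.sum_sub_distrib,
          Finset.sum_congr rfl (g := fun l => ((χ l a - χ j a) * c l) • v l)
            (fun l _ => by rw [map_smul, he, smul_smul, smul_smul, ← sub_smul, sub_mul, mul_comm (c l)])] at e1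
        rwa [← Finset.add_sum_erase s _ hj, sub_self, zero_mul, zero_smul, zero_add] at e1
      have := ih (s.erase j) (by rw [Finset.card_erase_of_mem hj]; omega) _ hw i
        (Finset.mem_erase.2 ⟨Ne.symm hji, hi⟩)
      exact (mul_eq_zero.1 this).resolve_left (sub_ne_zero.2 ha)
  exact linearIndependent_iff'.2 fun s c h i hi => key _ s le_rfl c h i hi

theorem eight_weights {μ : AddChar (Additive Fˣ) ℂ} (hμ : ∃ t : Fˣ, mval μ t ≠ 1) {z : Fin k → ℂ}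
    (hz : Wt ρ μ (wt 0) z) (hz0 : z ≠ 0) : 8 ≤ Module.finrank ℂ (Eig ρ SP (0 : Rt → F)) := by
  classical
  have hall : ∀ n : Fin 8, ∃ v, Wt ρ μ (wt n) v ∧ v ≠ 0 := by
    intro n
    induction n using Fin.induction with
    | zero => exact ⟨z, hz, hz0⟩
    | succ n ih =>
      obtain ⟨v, hv, hv0⟩ := ih
      exact ⟨_, wt_Hop hμ hv hv0 (wt_ok n).1 (wt_ok n).2⟩
  choose v hv hv0 using hall
  obtain ⟨t, ht⟩ := hμ
  have hinv : mval μ t⁻¹ ≠ 1 := fun e => ht (by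
    have := mval_mul μ t t⁻¹
    rw [mul_inv_cancel, mval_one, e, mul_one] at this
    exact this.symm)
  have hli : LinearIndependent ℂ v := by
    refine indep_eigen (fun a : Ix × Fˣ => ρ (hh a.1 a.2)) v (fun n a => mval μ (a.2 ^ wt n a.1)) hv0
      (fun n a => (hv n).2 a.1 a.2) fun a b hab => ?_
    by_contra hne
    obtain ⟨i, hi⟩ := wt_sep a b hne
    have e := congrFun hab (i, t)
    rcases hi with ⟨h0, h1 | h1⟩ | ⟨h0, h1 | h1⟩ <;>
      simp [h0, h1, mval_one, ht, hinv, Ne.symm ht, Ne.symm hinv] at e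
  have hli' : LinearIndependent ℂ (fun n => (⟨v n, (hv n).1⟩ : Eig ρ SP (0 : Rt → F))) :=
    LinearIndependent.of_comp (Eig ρ SP (0 : Rt → F)).subtype hli
  simpa using hli'.fintype_card_le_finrank

include h0 in
theorem eight_le_fixed : 8 ≤ Module.finrank ℂ (Eig ρ SP (0 : Rt → F)) := by
  classical
  obtain ⟨x1, h1e, h1ne, hoth, htest⟩ := exists_base h0
  by_cases h8 : ∀ t, ρ (hh i8 t) x1 = x1
  · obtain ⟨w, hw, hfar⟩ := htest fun j t => by
      by_cases hj : j = i8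
      · rw [hj]; exact h8 t
      · exact hoth j hj t
    have := Rank.eight_le (A := Aop ρ) Fintype.one_lt_card rels (rank_first h0) hw hfar
    exact this.trans (Submodule.finrank_mono inf_le_left)
  · push Not at h8
    obtain ⟨t0, ht0⟩ := h8
    let f : Additive Fˣ → GG F := fun a => hh i8 a.toMul
    have hf : ∀ a b, f (a + b) = f a * f b := fun a b => by
      show hh i8 (a.toMul * b.toMul) = _
      rw [hh_eq, hr_mul]; rfl
    obtain ⟨μ, hμz, hμ⟩ : ∃ μ : AddChar (Additive Fˣ) ℂ,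
        CfsgLib.RadicalBound.proj f ρ μ x1 ≠ 0 ∧ μ ≠ 1 := by
      by_contra hcon
      push Not at hcon
      have e : CfsgLib.RadicalBound.proj f ρ 1 x1 = x1 := by
        conv_rhs => rw [show x1 = (∑ χ, CfsgLib.RadicalBound.proj f ρ χ) x1 by
          rw [CfsgLib.OrthDeg.sum_proj f ρ hf, Module.End.one_apply]]
        rw [LinearMap.sum_apply, Finset.sum_eq_single (1 : AddChar (Additive Fˣ) ℂ)
          (fun χ _ hχ => by_contra fun h => hχ (hcon χ h)) (by simp)]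
      refine ht0 ?_
      have e2 := LinearMap.congr_fun (CfsgLib.RadicalBound.eig_proj f hf ρ (1 : AddChar (Additive Fˣ) ℂ)
        (Additive.ofMul t0)) x1
      rw [Module.End.mul_apply, LinearMap.smul_apply, AddChar.one_apply, one_smul, e] at e2
      exact e2
    refine eight_weights (μ := μ) ?_ ⟨?_, fun i t => ?_⟩ hμz
    · obtain ⟨a, ha⟩ := AddChar.ne_one_iff.1 hμ
      exact ⟨a.toMul, ha⟩
    · simp only [CfsgLib.RadicalBound.proj, LinearMap.smul_apply, LinearMap.sum_apply]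
      exact Submodule.smul_mem _ _ (Submodule.sum_mem _ fun a _ =>
        Submodule.smul_mem _ _ (move_hr_zero _ _ h1e))
    · rw [wt_zero]
      by_cases hi : i = i8
      · rw [if_pos hi, zpow_one, hi]
        exact LinearMap.congr_fun (CfsgLib.RadicalBound.eig_proj f hf ρ μ (Additive.ofMul t)) x1
      · rw [if_neg hi, zpow_zero, mval_one, one_smul]
        simp only [CfsgLib.RadicalBound.proj, LinearMap.smul_apply, LinearMap.sum_apply, map_smul, map_sum]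
        refine congrArg _ (Finset.sum_congr rfl fun a _ => ?_)
        show _ • ρ (hh i t) (ρ (hh i8 a.toMul) x1) = _ • ρ (hh i8 a.toMul) x1
        rw [← rho_mul, hh_eq, hh_eq, hr_comm, rho_mul, ← hh_eq i, hoth i hi]

end CfsgLib.E8Deg
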